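import Cfsg.Agent.Lib.OmegaPlusPres.Relators

/-!
Few relators give the relations at the fork.
-/

set_option autoImplicit false
set_option linter.unusedSimpArgs false
set_option linter.unusedSectionVars false
set_option linter.unusedVariables false
set_option linter.style.haveILetI false

namespace Cfsg.Agent.Lib.OmegaPlusPres

open Matrix Cfsg.Agent.Lib.SL2 Cfsg.Agent.Lib.LieRecog Cfsg.Agent.Lib.LieRecog.DSys Cfsg.Agent.Lib.BoundedPresentation

universe u

variable {N : ℕ} {F : Type u} [Field F]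

/-- Relators true in the orthogonal group which give the relations at the fork. -/
def Solves (gl : List (Words N F)) : Prop :=
  (∀ B : FreeGroup Unit →* GL (SIdx (N + 4)) F, B (FreeGroup.of ()) = t0 N F →
    ∀ z ∈ gl, glueEval (phi0 (n := N + 4)) B z = 1) ∧
  ∀ (G : Type u) [Group G] (A : SpecialLinearGroup (Fin (N + 4)) F →* G) (B : FreeGroup Unit →* G),
    (∀ z ∈ gl, glueEval A B z = 1) → ForkRels A (B (FreeGroup.of ())) ∧
      A (SLStd.emb qr_ne (SL2.diag (-1))) * sig A (B (FreeGroup.of ())) (SL2.diag (-1)) = 1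

/-- The coordinate `i`. -/
abbrev fx' (N i : ℕ) (h : i < N + 4) : Fin (N + 4) := ⟨i, h⟩

theorem zero_ne_one' : (0 : Fin (N + 4)) ≠ 1 := by simp

theorem one_ne_q : qIx N ≠ (1 : Fin (N + 4)) := fun e => absurd (congrArg Fin.val e) (by show N + 2 ≠ 1; omega)

theorem two_ne_q (hN : 1 ≤ N) : qIx N ≠ fx' N 2 (by omega) :=
  fun e => absurd (congrArg Fin.val e) (by show N + 2 ≠ 2; omega)

variable (N) in
/-- Torus element on the fixed coordinates moving `q` against `i`. -/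
def torQ (i : Fin (N + 4)) (h : qIx N ≠ i) (μ : Fˣ) : SpecialLinearGroup (Fin (N + 4)) F :=
  SLStd.emb h (SL2.diag μ)

theorem torQ_mem {i : Fin (N + 4)} (h : qIx N ≠ i) (hi : 1 ≤ i.val ∧ i.val ≤ N + 2) (μ : Fˣ) :
    torQ N i h μ ∈ (midHom (N := N) (F := F)).range :=
  emb_mem_mid h ⟨Nat.le_add_left _ _, le_rfl⟩ hi _

theorem torQ_qr {i : Fin (N + 4)} (h : qIx N ≠ i) (hi : i.val ≤ N + 1) (μ : Fˣ) (v : SLtwo F) :
    torQ N i h μ * SLStd.emb qr_ne v * (torQ N i h μ)⁻¹ = SLStd.emb qr_ne (sc2 μ v) :=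
  diag_conj_emb (SLStd.emb_diag h μ) qr_ne μ (by
    have h2 : rIx N ≠ i := fun e => absurd (congrArg Fin.val e) (by show N + 3 ≠ i.val; omega)
    simp [SLStd.dv, qr_ne.symm, h2]) v

theorem emb_diag_commute {a b c d : Fin (N + 4)} (hab : a ≠ b) (hcd : c ≠ d) (u w : Fˣ) :
    Commute (SLStd.emb hab (SL2.diag u) : SpecialLinearGroup (Fin (N + 4)) F) (SLStd.emb hcd (SL2.diag w)) := by
  refine Subtype.ext ?_
  show (SLStd.emb hab (SL2.diag u) : SpecialLinearGroup (Fin (N + 4)) F).1 * (SLStd.emb hcd (SL2.diag w) : SpecialLinearGroup (Fin (N + 4)) F).1 =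
    (SLStd.emb hcd (SL2.diag w) : SpecialLinearGroup (Fin (N + 4)) F).1 * (SLStd.emb hab (SL2.diag u) : SpecialLinearGroup (Fin (N + 4)) F).1
  rw [SLStd.emb_diag, SLStd.emb_diag]
  exact Matrix.commute_diagonal _ _

theorem comm_qr_torus {i : Fin (N + 4)} (h : qIx N ≠ i) (u μ : Fˣ) :
    Commute (torQ N i h μ) (SLStd.emb qr_ne (SL2.diag u)) := emb_diag_commute _ _ _ _

section Steps

variable {G : Type*} [Group G] {Φ : SpecialLinearGroup (Fin (N + 4)) F →* G} {t : G}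

theorem torus_low_mem_cen {i j : Fin (N + 4)} (hij : i ≠ j) {ω : Fˣ}
    (hgen : ∀ s : F, s ≠ 0 → ∃ k : ℕ, (ω : F) ^ k = s) (h : SLStd.emb hij (SL2.diag ω) ∈ cen Φ t) (u : Fˣ) :
    SLStd.emb hij (SL2.diag u) ∈ cen Φ t := by
  obtain ⟨k, hk⟩ := hgen u u.ne_zero
  obtain rfl : u = ω ^ k := Units.ext (by simpa using hk.symm)
  clear hk
  induction k with
  | zero => rw [pow_zero, SL2.diag_one, map_one]; exact one_mem _
  | succ k ih => rw [pow_succ, ← SL2.diag_mul, map_mul]; exact mul_mem ih h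

/-- A single relator and the torus moving only the fork copy. -/
theorem cen_of_scaled [Fintype F] {ω : Fˣ} (hq : 4 ≤ Fintype.card F)
    (hgen : ∀ s : F, s ≠ 0 → ∃ k : ℕ, (ω : F) ^ k = s)
    (hspan : ∀ S : AddSubgroup F, (1 : F) ∈ S → (∀ t ∈ S, (ω : F) ^ 2 * t ∈ S) → ∀ t, t ∈ S)
    (hM : MidComm Φ t) {g : SpecialLinearGroup (Fin (N + 4)) F} {α : F} (hα : α ≠ 0) {i : Fin (N + 4)}
    (hi : qIx N ≠ i) (hir : 1 ≤ i.val ∧ i.val ≤ N + 1) (e : Fˣ → SpecialLinearGroup (Fin (N + 4)) F)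
    (he : ∀ μ, e μ ∈ cen Φ t) (hcomm : ∀ μ, Commute (e μ * torQ N i hi (μ ^ 2)) g)
    (h : Commute (Φ g) (sig Φ t (comp2 α))) : g ∈ cen Φ t := by
  refine mem_cen_of_top (eq_top_of_orbit hq hgen hspan _ hα fun μ => ?_)
  rw [mem_comSet]
  have := conj_step hM h (torQ_mem hi ⟨hir.1, by omega⟩ (μ ^ 2)) (he μ) (torQ_qr hi hir.2 (μ ^ 2) _)
  rwa [(hcomm μ).eq, mul_inv_cancel_right] at this

theorem low_zero (hN : N = 0) (h : ∀ v, SLStd.emb (zero_ne_one' (N := N)) v ∈ cen Φ t) :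
    ∀ a b : Fin (N + 4), a ≠ b → a.val ≤ N + 1 → b.val ≤ N + 1 → ∀ s, elN a b s ∈ cen Φ t := by
  intro a b hab ha hb s
  have hab' : a.val ≠ b.val := fun e => hab (Fin.ext e)
  rcases Nat.eq_zero_or_pos a.val with e | e
  · obtain rfl : a = 0 := Fin.ext e
    obtain rfl : b = 1 := Fin.ext (show b.val = 1 by omega)
    rw [← emb_upper_eq (zero_ne_one' (N := N))]; exact h _
  · obtain rfl : a = 1 := Fin.ext (show a.val = 1 by omega)
    obtain rfl : b = 0 := Fin.ext (show b.val = 0 by omega)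
    rw [← emb_lower_eq (zero_ne_one' (N := N))]; exact h _

theorem cen_emb_top [Fintype F] {ω : Fˣ} (hq : 4 ≤ Fintype.card F)
    (hgen : ∀ s : F, s ≠ 0 → ∃ k : ℕ, (ω : F) ^ k = s)
    (hspan : ∀ S : AddSubgroup F, (1 : F) ∈ S → (∀ t ∈ S, (ω : F) ^ 2 * t ∈ S) → ∀ t, t ∈ S)
    {a b : Fin (N + 4)} (hab : a ≠ b) {α : F} (hα : α ≠ 0) (h1 : SLStd.emb hab (SL2.diag ω) ∈ cen Φ t)
    (h2 : SLStd.emb hab (comp2 α) ∈ cen Φ t) (v : SLtwo F) : SLStd.emb hab v ∈ cen Φ t := by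
  have := eq_top_of_diag hq hgen hspan ((cen Φ t).comap (SLStd.emb hab)) h1 hα h2
  exact (this ▸ Subgroup.mem_top v : v ∈ (cen Φ t).comap (SLStd.emb hab))

theorem cen_emb_small [Fintype F] {ω : Fˣ} (hq : Fintype.card F < 4)
    (hgen : ∀ s : F, s ≠ 0 → ∃ k : ℕ, (ω : F) ^ k = s) {a b : Fin (N + 4)} (hab : a ≠ b)
    (h1 : SLStd.emb hab (upper 1) ∈ cen Φ t) (h2 : SLStd.emb hab (uw : SLtwo F) ∈ cen Φ t) (v : SLtwo F) :
    SLStd.emb hab v ∈ cen Φ t := by
  have := eq_top_of_upper_uw hgen hq ((cen Φ t).comap (SLStd.emb hab)) h1 h2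
  exact (this ▸ Subgroup.mem_top v : v ∈ (cen Φ t).comap (SLStd.emb hab))

/-- Both torus scalings cancel on the chosen pair. -/
theorem adjust_commute {i : Fin (N + 4)} (hi : qIx N ≠ i) (hir : i.val ≤ N + 1) (μ : Fˣ) (v : SLtwo F) :
    Commute (SLStd.emb qr_ne (SL2.diag μ⁻¹) * torQ N i hi (μ ^ 2)) (SLStd.emb qr_ne v) := by
  refine diag_commute_emb (d := fun k => SLStd.dv (qIx N) (rIx N) μ⁻¹ k * SLStd.dv (qIx N) i (μ ^ 2) k) ?_ qr_ne ?_ v
  · show (SLStd.emb qr_ne (SL2.diag μ⁻¹) : SpecialLinearGroup (Fin (N + 4)) F).1 * (SLStd.emb hi (SL2.diag (μ ^ 2)) : SpecialLinearGroup (Fin (N + 4)) F).1 = _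
    rw [SLStd.emb_diag, SLStd.emb_diag, Matrix.diagonal_mul_diagonal]
  · have h2 : rIx N ≠ i := fun e => absurd (congrArg Fin.val e) (by show N + 3 ≠ i.val; omega)
    simp [SLStd.dv, qr_ne, qr_ne.symm, h2]
    field_simp

theorem adjust_commute_low (hN : N = 0) (μ : Fˣ) (v : SLtwo F) :
    Commute (SLStd.emb zero_ne_one' (SL2.diag μ⁻¹) * torQ N 1 one_ne_q (μ ^ 2)) (SLStd.emb zero_ne_one' v) := by
  subst hN
  refine diag_commute_emb (d := fun k => SLStd.dv (0 : Fin 4) 1 μ⁻¹ k * SLStd.dv (qIx 0) 1 (μ ^ 2) k) ?_ zero_ne_one' ?_ v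
  · show (SLStd.emb zero_ne_one' (SL2.diag μ⁻¹) : SpecialLinearGroup (Fin 4) F).1 * (SLStd.emb one_ne_q (SL2.diag (μ ^ 2)) : SpecialLinearGroup (Fin 4) F).1 = _
    rw [SLStd.emb_diag, SLStd.emb_diag, Matrix.diagonal_mul_diagonal]
  · simp [SLStd.dv, qIx, Fin.ext_iff]
    field_simp

end Steps

section CaseLists

variable [Fintype F]
variable {m₁ m₂ : SpecialLinearGroup (Fin (N + 2)) F} (hm : Subgroup.closure ({m₁, m₂} : Set _) = ⊤)

theorem mid_model (B : FreeGroup Unit →* GL (SIdx (N + 4)) F) (hB : B (FreeGroup.of ()) = t0 N F)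
    (m : SpecialLinearGroup (Fin (N + 2)) F) : glueEval (phi0 (n := N + 4)) B (midRel m) = 1 := by
  rw [eval_midRel, hB]; exact midComm0 m

theorem twist_model (B : FreeGroup Unit →* GL (SIdx (N + 4)) F) (hB : B (FreeGroup.of ()) = t0 N F)
    (m : SpecialLinearGroup (Fin (N + 2)) F) : glueEval (phi0 (n := N + 4)) B (twistRel m) = 1 := by
  rw [eval_twistRel, hB, ← (midComm0 m).eq, mul_inv_cancel_right]
  exact (inv_eq_of_mul_eq_one_left t0_mul_self).symm

theorem cm_model (B : FreeGroup Unit →* GL (SIdx (N + 4)) F) (hB : B (FreeGroup.of ()) = t0 N F)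
    {g : SpecialLinearGroup (Fin (N + 4)) F} (hg : g ∈ cen (phi0 (n := N + 4)) (t0 N F)) (v : SLtwo F) :
    glueEval (phi0 (n := N + 4)) B (cm g v) = 1 := by
  rw [eval_cm, hB]; exact (mem_cen _ _).1 hg v

theorem z_model' (B : FreeGroup Unit →* GL (SIdx (N + 4)) F) (hB : B (FreeGroup.of ()) = t0 N F) :
    glueEval (phi0 (n := N + 4)) B (zRel N F) = 1 := by
  rw [eval_zRel, hB]; exact z_model

theorem low_mem0 (v : SLtwo F) : SLStd.emb (zero_ne_one' (N := N)) v ∈ cen (phi0 (n := N + 4)) (t0 N F) :=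
  emb_mem_cen0 _ (Or.inl ⟨Nat.zero_le _, show 1 ≤ N + 1 by omega⟩) v

theorem fork_mem0 (v : SLtwo F) : SLStd.emb (qr_ne (N := N)) v ∈ cen (phi0 (n := N + 4)) (t0 N F) :=
  emb_mem_cen0 _ (Or.inr ⟨le_rfl, Nat.le_succ _⟩) v

theorem neg_one_diag (h2 : (2 : F) = 0) : SL2.diag (-1 : Fˣ) = (1 : SLtwo F) := by
  rw [show (-1 : Fˣ) = 1 from Units.ext (by
    rw [Units.val_neg, Units.val_one, neg_eq_iff_add_eq_zero, one_add_one_eq_two, h2]), SL2.diag_one]

theorem disj_commute (v w : SLtwo F) :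
    Commute (SLStd.emb (zero_ne_one' (N := N)) v : SpecialLinearGroup (Fin (N + 4)) F) (SLStd.emb qr_ne w) :=
  emb_commute_disj _ _ (fun e => absurd (congrArg Fin.val e) (by show 0 ≠ N + 2; omega))
    (fun e => absurd (congrArg Fin.val e) (by show 0 ≠ N + 3; omega))
    (fun e => absurd (congrArg Fin.val e) (by show 1 ≠ N + 2; omega))
    (fun e => absurd (congrArg Fin.val e) (by show 1 ≠ N + 3; omega)) v w

include hm in
/-- Five relators, at least four elements in the field, `n ≥ 5`. -/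
theorem solves_big (hN : 1 ≤ N) (hq : 4 ≤ Fintype.card F) {ω : Fˣ}
    (hgen : ∀ s : F, s ≠ 0 → ∃ k : ℕ, (ω : F) ^ k = s)
    (hspan : ∀ S : AddSubgroup F, (1 : F) ∈ S → (∀ t ∈ S, (ω : F) ^ 2 * t ∈ S) → ∀ t, t ∈ S) :
    Solves [midRel m₁, midRel m₂,
      cm (SLStd.emb (zero_ne_one' (N := N)) (comp2 2) * SLStd.emb qr_ne (SL2.diag ω)) (comp2 1),
      cm (SLStd.emb qr_ne (comp2 1)) (comp2 1), zRel N F] := by
  refine ⟨fun B hB => ?_, fun G _ A B h => ?_⟩
  · simp only [List.forall_mem_cons, List.not_mem_nil, IsEmpty.forall_iff, implies_true, and_true]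
    exact ⟨mid_model B hB _, mid_model B hB _,
      cm_model B hB (mul_mem (low_mem0 _) (fork_mem0 _)) _, cm_model B hB (fork_mem0 _) _, z_model' B hB⟩
  simp only [List.forall_mem_cons, List.not_mem_nil, IsEmpty.forall_iff, implies_true, and_true, eval_midRel, eval_cm, eval_zRel] at h
  obtain ⟨h1, h2, hx, ha, hz⟩ := h
  set t := B (FreeGroup.of ())
  have hM : MidComm A t := midComm_of_gens hm h1 h2
  obtain ⟨p, hp⟩ := CharP.exists F
  obtain ⟨d, hpr, hc⟩ := FiniteField.card F p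
  haveI : Fact p.Prime := ⟨hpr⟩
  have hcop : Nat.Coprime p (Fintype.card F - 1) := by
    refine hpr.coprime_iff_not_dvd.2 fun hd => hpr.one_lt.ne' (Nat.dvd_one.1 ?_)
    have hpd : p ∣ Fintype.card F := hc ▸ dvd_pow_self _ d.pos.ne'
    have := Nat.dvd_sub hpd hd
    rwa [Nat.sub_sub_self (by omega)] at this
  rw [map_mul] at hx
  obtain ⟨hx1, hx2⟩ := commute_parts ((disj_commute _ _).map A)
    (by rw [← map_pow, ← map_pow, pow_coe_two, map_one, map_one])
    (by rw [← map_pow, ← map_pow, diag_pow_eq_one, map_one, map_one]) hcop hx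
  have hi : qIx N ≠ fx' N 2 (by omega) := two_ne_q hN
  have hi2 : 1 ≤ (fx' N 2 (by omega)).val ∧ (fx' N 2 (by omega)).val ≤ N + 1 := ⟨Nat.le_succ _, show 2 ≤ N + 1 by omega⟩
  have hx' : SLStd.emb (zero_ne_one' (N := N)) (comp2 2) ∈ cen A t :=
    cen_of_scaled hq hgen hspan hM one_ne_zero hi hi2 (fun _ => 1) (fun _ => one_mem _)
      (fun μ => by
        rw [one_mul]
        exact diag_commute_emb (SLStd.emb_diag hi (μ ^ 2)) _ (by
          simp [SLStd.dv, fx', qIx, Fin.ext_iff]) _) hx1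
  have hh : SLStd.emb (qr_ne (N := N)) (SL2.diag ω) ∈ cen A t :=
    cen_of_scaled hq hgen hspan hM one_ne_zero hi hi2 (fun _ => 1) (fun _ => one_mem _)
      (fun μ => by rw [one_mul]; exact comm_qr_torus hi ω _) hx2
  have ha' : SLStd.emb (qr_ne (N := N)) (comp2 1) ∈ cen A t :=
    cen_of_scaled hq hgen hspan hM one_ne_zero hi hi2 _ (fun μ => torus_low_mem_cen qr_ne hgen hh μ⁻¹)
      (fun μ => adjust_commute hi hi2.2 μ _) ha
  obtain ⟨e1, e2, e3⟩ := comp2_entries (F := F) 2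
  exact ⟨⟨hM, low_of_elem hM hN e1 e2 e3 hx', cen_emb_top hq hgen hspan qr_ne one_ne_zero hh ha'⟩, hz⟩

include hm in
/-- Five relators, field of odd order at least five, `n = 4`. -/
theorem solves_four_odd (hN : N = 0) (hq : 4 ≤ Fintype.card F) (h2F : (2 : F) ≠ 0) {ω : Fˣ}
    (hgen : ∀ s : F, s ≠ 0 → ∃ k : ℕ, (ω : F) ^ k = s)
    (hspan : ∀ S : AddSubgroup F, (1 : F) ∈ S → (∀ t ∈ S, (ω : F) ^ 2 * t ∈ S) → ∀ t, t ∈ S) :
    Solves [midRel m₁, midRel m₂,
      cm (SLStd.emb (zero_ne_one' (N := N)) (comp2 2) * SLStd.emb qr_ne (SL2.diag ω)) (comp2 1),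
      cm (SLStd.emb (zero_ne_one' (N := N)) (SL2.diag ω) * SLStd.emb qr_ne (comp2 2)) (comp2 1), zRel N F] := by
  refine ⟨fun B hB => ?_, fun G _ A B h => ?_⟩
  · simp only [List.forall_mem_cons, List.not_mem_nil, IsEmpty.forall_iff, implies_true, and_true]
    exact ⟨mid_model B hB _, mid_model B hB _,
      cm_model B hB (mul_mem (low_mem0 _) (fork_mem0 _)) _, cm_model B hB (mul_mem (low_mem0 _) (fork_mem0 _)) _,
      z_model' B hB⟩
  simp only [List.forall_mem_cons, List.not_mem_nil, IsEmpty.forall_iff, implies_true, and_true, eval_midRel, eval_cm, eval_zRel] at h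
  obtain ⟨h1, h2, hx, ha, hz⟩ := h
  set t := B (FreeGroup.of ())
  have hM : MidComm A t := midComm_of_gens hm h1 h2
  obtain ⟨p, hp⟩ := CharP.exists F
  obtain ⟨d, hpr, hc⟩ := FiniteField.card F p
  haveI : Fact p.Prime := ⟨hpr⟩
  have hcop : Nat.Coprime p (Fintype.card F - 1) := by
    refine hpr.coprime_iff_not_dvd.2 fun hd => hpr.one_lt.ne' (Nat.dvd_one.1 ?_)
    have hpd : p ∣ Fintype.card F := hc ▸ dvd_pow_self _ d.pos.ne'
    have := Nat.dvd_sub hpd hd
    rwa [Nat.sub_sub_self (by omega)] at this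
  rw [map_mul] at hx ha
  obtain ⟨hx1, hx2⟩ := commute_parts ((disj_commute _ _).map A)
    (by rw [← map_pow, ← map_pow, pow_coe_two, map_one, map_one])
    (by rw [← map_pow, ← map_pow, diag_pow_eq_one, map_one, map_one]) hcop hx
  obtain ⟨ha1, ha2⟩ := commute_parts ((disj_commute _ _).map A)
    (by rw [← map_pow, ← map_pow, diag_pow_eq_one, map_one, map_one])
    (by rw [← map_pow, ← map_pow, pow_coe_two, map_one, map_one]) hcop.symm ha
  have hi2 : 1 ≤ (1 : Fin (N + 4)).val ∧ (1 : Fin (N + 4)).val ≤ N + 1 := ⟨le_rfl, show 1 ≤ N + 1 by omega⟩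
  have hh : SLStd.emb (qr_ne (N := N)) (SL2.diag ω) ∈ cen A t :=
    cen_of_scaled hq hgen hspan hM one_ne_zero one_ne_q hi2 (fun _ => 1) (fun _ => one_mem _)
      (fun μ => by rw [one_mul]; exact comm_qr_torus _ ω _) hx2
  have hk : SLStd.emb (zero_ne_one' (N := N)) (SL2.diag ω) ∈ cen A t :=
    cen_of_scaled hq hgen hspan hM one_ne_zero one_ne_q hi2 (fun _ => 1) (fun _ => one_mem _)
      (fun μ => by rw [one_mul]; exact emb_diag_commute _ _ _ _) ha1
  have ha' : SLStd.emb (qr_ne (N := N)) (comp2 2) ∈ cen A t :=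
    cen_of_scaled hq hgen hspan hM one_ne_zero one_ne_q hi2 _ (fun μ => torus_low_mem_cen qr_ne hgen hh μ⁻¹)
      (fun μ => adjust_commute one_ne_q hi2.2 μ _) ha2
  have hx' : SLStd.emb (zero_ne_one' (N := N)) (comp2 2) ∈ cen A t :=
    cen_of_scaled hq hgen hspan hM one_ne_zero one_ne_q hi2 _ (fun μ => torus_low_mem_cen zero_ne_one' hgen hk μ⁻¹)
      (fun μ => adjust_commute_low hN μ _) hx1
  exact ⟨⟨hM, low_zero hN (cen_emb_top hq hgen hspan _ h2F hk hx'), cen_emb_top hq hgen hspan qr_ne h2F hh ha'⟩, hz⟩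

include hm in
/-- Six relators, field of even order at least four, `n = 4`. -/
theorem solves_four_even (hN : N = 0) (hq : 4 ≤ Fintype.card F) (h2F : (2 : F) = 0) {ω : Fˣ}
    (hgen : ∀ s : F, s ≠ 0 → ∃ k : ℕ, (ω : F) ^ k = s)
    (hspan : ∀ S : AddSubgroup F, (1 : F) ∈ S → (∀ t ∈ S, (ω : F) ^ 2 * t ∈ S) → ∀ t, t ∈ S) :
    Solves [midRel m₁, midRel m₂,
      cm (SLStd.emb (zero_ne_one' (N := N)) (SL2.diag ω)) (comp2 1),
      cm (SLStd.emb (qr_ne (N := N)) (SL2.diag ω)) (comp2 1),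
      cm (SLStd.emb (zero_ne_one' (N := N)) (comp2 1)) (comp2 1),
      cm (SLStd.emb (qr_ne (N := N)) (comp2 1)) (comp2 1)] := by
  refine ⟨fun B hB => ?_, fun G _ A B h => ?_⟩
  · simp only [List.forall_mem_cons, List.not_mem_nil, IsEmpty.forall_iff, implies_true, and_true]
    exact ⟨mid_model B hB _, mid_model B hB _, cm_model B hB (low_mem0 _) _, cm_model B hB (fork_mem0 _) _,
      cm_model B hB (low_mem0 _) _, cm_model B hB (fork_mem0 _) _⟩
  simp only [List.forall_mem_cons, List.not_mem_nil, IsEmpty.forall_iff, implies_true, and_true, eval_midRel, eval_cm] at h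
  obtain ⟨h1, h2, ha1, hx2, hx1, ha2⟩ := h
  set t := B (FreeGroup.of ())
  have hM : MidComm A t := midComm_of_gens hm h1 h2
  have hi2 : 1 ≤ (1 : Fin (N + 4)).val ∧ (1 : Fin (N + 4)).val ≤ N + 1 := ⟨le_rfl, show 1 ≤ N + 1 by omega⟩
  have hh : SLStd.emb (qr_ne (N := N)) (SL2.diag ω) ∈ cen A t :=
    cen_of_scaled hq hgen hspan hM one_ne_zero one_ne_q hi2 (fun _ => 1) (fun _ => one_mem _)
      (fun μ => by rw [one_mul]; exact comm_qr_torus _ ω _) hx2
  have hk : SLStd.emb (zero_ne_one' (N := N)) (SL2.diag ω) ∈ cen A t :=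
    cen_of_scaled hq hgen hspan hM one_ne_zero one_ne_q hi2 (fun _ => 1) (fun _ => one_mem _)
      (fun μ => by rw [one_mul]; exact emb_diag_commute _ _ _ _) ha1
  have ha' : SLStd.emb (qr_ne (N := N)) (comp2 1) ∈ cen A t :=
    cen_of_scaled hq hgen hspan hM one_ne_zero one_ne_q hi2 _ (fun μ => torus_low_mem_cen qr_ne hgen hh μ⁻¹)
      (fun μ => adjust_commute one_ne_q hi2.2 μ _) ha2
  have hx' : SLStd.emb (zero_ne_one' (N := N)) (comp2 1) ∈ cen A t :=
    cen_of_scaled hq hgen hspan hM one_ne_zero one_ne_q hi2 _ (fun μ => torus_low_mem_cen zero_ne_one' hgen hk μ⁻¹)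
      (fun μ => adjust_commute_low hN μ _) hx1
  exact ⟨⟨hM, low_zero hN (cen_emb_top hq hgen hspan _ one_ne_zero hk hx'),
    cen_emb_top hq hgen hspan qr_ne one_ne_zero hh ha'⟩, by simp [neg_one_diag h2F]⟩

end CaseLists

section SmallField

variable [Fintype F]
variable {m₁ m₂ : SpecialLinearGroup (Fin (N + 2)) F} (hm : Subgroup.closure ({m₁, m₂} : Set _) = ⊤)

theorem char_three (hq : Fintype.card F = 3) : (3 : F) = 0 := by
  have := FiniteField.cast_card_eq_zero F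
  rw [hq] at this
  exact_mod_cast this

/-- Over three elements, elements inverted by the rescaling commute with the whole copy. -/
theorem cen_of_inverted {G : Type*} [Group G] {Φ : SpecialLinearGroup (Fin (N + 4)) F →* G} {t : G} {ω : Fˣ}
    (hq : Fintype.card F = 3) (hgen : ∀ s : F, s ≠ 0 → ∃ k : ℕ, (ω : F) ^ k = s) (hM : MidComm Φ t)
    {g : SpecialLinearGroup (Fin (N + 4)) F} {i : Fin (N + 4)} (hi : qIx N ≠ i)
    (hir : 1 ≤ i.val ∧ i.val ≤ N + 1)
    (hcg : torQ N i hi (-1) * g * (torQ N i hi (-1))⁻¹ = g ∨ torQ N i hi (-1) * g * (torQ N i hi (-1))⁻¹ = g⁻¹)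
    (h : Commute (Φ g) (sig Φ t (uw : SLtwo F))) : g ∈ cen Φ t := by
  refine mem_cen_of_top (eq_top_of_uw_neg hgen hq _ (mem_comSet.2 h) (mem_comSet.2 ?_))
  have := conj_step hM h (torQ_mem hi ⟨hir.1, by omega⟩ (-1)) (one_mem _) (torQ_qr hi hir.2 (-1) _)
  rw [one_mul] at this
  rcases hcg with e | e <;> rw [e] at this
  · exact this
  · rw [map_inv] at this; exact Commute.inv_left_iff.1 this

theorem sc2_neg_inv (hq : Fintype.card F = 3) :
    sc2 (-1 : Fˣ) (upper 1 : SLtwo F) = (upper 1)⁻¹ ∧ sc2 (-1 : Fˣ) (weyl : SLtwo F) = weyl⁻¹ := by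
  constructor <;> apply ext_entries <;>
    simp [sc2_00, sc2_01, sc2_10, sc2_11, upper, weyl, ofEntries_coe, inv_00, inv_01, inv_10, inv_11]

include hm in
theorem solves_three_big (hN : 1 ≤ N) (hq : Fintype.card F = 3) {ω : Fˣ}
    (hgen : ∀ s : F, s ≠ 0 → ∃ k : ℕ, (ω : F) ^ k = s) :
    Solves [midRel m₁, midRel m₂,
      cm (SLStd.emb (zero_ne_one' (N := N)) (uw : SLtwo F) * SLStd.emb qr_ne weyl) uw,
      cm (SLStd.emb qr_ne (upper 1)) uw, zRel N F] := by
  refine ⟨fun B hB => ?_, fun G _ A B h => ?_⟩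
  · simp only [List.forall_mem_cons, List.not_mem_nil, IsEmpty.forall_iff, implies_true, and_true]
    exact ⟨mid_model B hB _, mid_model B hB _,
      cm_model B hB (mul_mem (low_mem0 _) (fork_mem0 _)) _, cm_model B hB (fork_mem0 _) _, z_model' B hB⟩
  simp only [List.forall_mem_cons, List.not_mem_nil, IsEmpty.forall_iff, implies_true, and_true, eval_midRel, eval_cm, eval_zRel] at h
  obtain ⟨h1, h2, hx, ha, hz⟩ := h
  set t := B (FreeGroup.of ())
  have hM : MidComm A t := midComm_of_gens hm h1 h2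
  rw [map_mul] at hx
  obtain ⟨hx1, hx2⟩ := commute_parts (m := 3) (n := 4) ((disj_commute _ _).map A)
    (by rw [← map_pow, ← map_pow, uw_pow_three, map_one, map_one])
    (by rw [← map_pow, ← map_pow, weyl_pow_four, map_one, map_one]) (by decide) hx
  have hi : qIx N ≠ fx' N 2 (by omega) := two_ne_q hN
  have hi2 : 1 ≤ (fx' N 2 (by omega)).val ∧ (fx' N 2 (by omega)).val ≤ N + 1 := ⟨Nat.le_succ _, show 2 ≤ N + 1 by omega⟩
  have hinv : ∀ v : SLtwo F, sc2 (-1 : Fˣ) v = v⁻¹ →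
      torQ N _ hi (-1) * SLStd.emb qr_ne v * (torQ N _ hi (-1))⁻¹ = (SLStd.emb qr_ne v)⁻¹ := fun v e => by
    rw [torQ_qr hi hi2.2, e, map_inv]
  have hx' : SLStd.emb (zero_ne_one' (N := N)) (uw : SLtwo F) ∈ cen A t :=
    cen_of_inverted hq hgen hM hi hi2 (Or.inl (by
      rw [mul_inv_eq_iff_eq_mul]
      exact (diag_commute_emb (SLStd.emb_diag hi (-1)) _ (by simp [SLStd.dv, fx', qIx, Fin.ext_iff]) _).eq)) hx1
  have hw : SLStd.emb (qr_ne (N := N)) (weyl : SLtwo F) ∈ cen A t :=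
    cen_of_inverted hq hgen hM hi hi2 (Or.inr (hinv _ (sc2_neg_inv hq).2)) hx2
  have hu : SLStd.emb (qr_ne (N := N)) (upper 1 : SLtwo F) ∈ cen A t :=
    cen_of_inverted hq hgen hM hi hi2 (Or.inr (hinv _ (sc2_neg_inv hq).1)) ha
  obtain ⟨e1, e2, e3⟩ := uw_entries (F := F)
  exact ⟨⟨hM, low_of_elem hM hN e1 e2 e3 hx', cen_emb_small (by omega) hgen qr_ne hu
    (by rw [uw, map_mul]; exact mul_mem hu hw)⟩, hz⟩

include hm in
theorem solves_three_four (hN : N = 0) (hq : Fintype.card F = 3) {ω : Fˣ}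
    (hgen : ∀ s : F, s ≠ 0 → ∃ k : ℕ, (ω : F) ^ k = s) :
    Solves [midRel m₁, midRel m₂,
      cm (SLStd.emb (zero_ne_one' (N := N)) (upper 1 : SLtwo F) * SLStd.emb qr_ne weyl) uw,
      cm (SLStd.emb (zero_ne_one' (N := N)) (weyl : SLtwo F) * SLStd.emb qr_ne (upper 1)) uw, zRel N F] := by
  refine ⟨fun B hB => ?_, fun G _ A B h => ?_⟩
  · simp only [List.forall_mem_cons, List.not_mem_nil, IsEmpty.forall_iff, implies_true, and_true]
    exact ⟨mid_model B hB _, mid_model B hB _,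
      cm_model B hB (mul_mem (low_mem0 _) (fork_mem0 _)) _, cm_model B hB (mul_mem (low_mem0 _) (fork_mem0 _)) _,
      z_model' B hB⟩
  simp only [List.forall_mem_cons, List.not_mem_nil, IsEmpty.forall_iff, implies_true, and_true, eval_midRel, eval_cm, eval_zRel] at h
  obtain ⟨h1, h2, hx, ha, hz⟩ := h
  set t := B (FreeGroup.of ())
  have hM : MidComm A t := midComm_of_gens hm h1 h2
  rw [map_mul] at hx ha
  haveI : CharP F 3 := by
    obtain ⟨p, hp⟩ := CharP.exists F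
    obtain ⟨d, hpr, hc⟩ := FiniteField.card F p
    rw [hq] at hc
    rwa [(Nat.prime_eq_prime_of_dvd_pow (m := 1) (p := p) hpr Nat.prime_three
      (by rw [pow_one, hc]; exact dvd_pow_self _ d.pos.ne'))] at hp
  obtain ⟨hx1, hx2⟩ := commute_parts (m := 3) (n := 4) ((disj_commute _ _).map A)
    (by rw [← map_pow, ← map_pow, upper_pow_char 3, map_one, map_one])
    (by rw [← map_pow, ← map_pow, weyl_pow_four, map_one, map_one]) (by decide) hx
  obtain ⟨ha1, ha2⟩ := commute_parts (m := 4) (n := 3) ((disj_commute _ _).map A)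
    (by rw [← map_pow, ← map_pow, weyl_pow_four, map_one, map_one])
    (by rw [← map_pow, ← map_pow, upper_pow_char 3, map_one, map_one]) (by decide) ha
  have hi2 : 1 ≤ (1 : Fin (N + 4)).val ∧ (1 : Fin (N + 4)).val ≤ N + 1 := ⟨le_rfl, show 1 ≤ N + 1 by omega⟩
  have hinv : ∀ v : SLtwo F, sc2 (-1 : Fˣ) v = v⁻¹ →
      torQ N _ one_ne_q (-1) * SLStd.emb qr_ne v * (torQ N _ one_ne_q (-1))⁻¹ = (SLStd.emb qr_ne v)⁻¹ := fun v e => by
    rw [torQ_qr one_ne_q hi2.2, e, map_inv]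
  have hinv' : ∀ v : SLtwo F, sc2 (-1 : Fˣ) v = v⁻¹ →
      torQ N _ one_ne_q (-1) * SLStd.emb zero_ne_one' v * (torQ N _ one_ne_q (-1))⁻¹ =
        (SLStd.emb zero_ne_one' v)⁻¹ := fun v e => by
    rw [torQ, diag_conj_emb (SLStd.emb_diag one_ne_q (-1)) zero_ne_one' (-1) (by
      subst hN; simp [SLStd.dv, qIx, Fin.ext_iff]), e, map_inv]
  have hw : SLStd.emb (qr_ne (N := N)) (weyl : SLtwo F) ∈ cen A t :=
    cen_of_inverted hq hgen hM one_ne_q hi2 (Or.inr (hinv _ (sc2_neg_inv hq).2)) hx2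
  have hu : SLStd.emb (qr_ne (N := N)) (upper 1 : SLtwo F) ∈ cen A t :=
    cen_of_inverted hq hgen hM one_ne_q hi2 (Or.inr (hinv _ (sc2_neg_inv hq).1)) ha2
  have hw' : SLStd.emb (zero_ne_one' (N := N)) (weyl : SLtwo F) ∈ cen A t :=
    cen_of_inverted hq hgen hM one_ne_q hi2 (Or.inr (hinv' _ (sc2_neg_inv hq).2)) ha1
  have hu' : SLStd.emb (zero_ne_one' (N := N)) (upper 1 : SLtwo F) ∈ cen A t :=
    cen_of_inverted hq hgen hM one_ne_q hi2 (Or.inr (hinv' _ (sc2_neg_inv hq).1)) hx1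
  exact ⟨⟨hM, low_zero hN (cen_emb_small (by omega) hgen _ hu' (by rw [uw, map_mul]; exact mul_mem hu' hw')),
    cen_emb_small (by omega) hgen qr_ne hu (by rw [uw, map_mul]; exact mul_mem hu hw)⟩, hz⟩

theorem char_two_of_card (hq : Fintype.card F = 2) : (2 : F) = 0 := by
  have := FiniteField.cast_card_eq_zero F
  rw [hq] at this
  exact_mod_cast this

theorem upper_sq (h2 : (2 : F) = 0) : (upper (1 : F)) ^ 2 = 1 := by
  rw [upper_pow, show ((2 : ℕ) : F) = 0 by exact_mod_cast h2, zero_mul, upper_zero]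

include hm in
theorem solves_two_big (hN : 1 ≤ N) (hq : Fintype.card F = 2) {ω : Fˣ}
    (hgen : ∀ s : F, s ≠ 0 → ∃ k : ℕ, (ω : F) ^ k = s) :
    Solves [midRel m₁, twistRel m₂,
      cm (SLStd.emb (zero_ne_one' (N := N)) (uw : SLtwo F) * SLStd.emb qr_ne (upper 1)) (upper 1),
      cm (SLStd.emb (zero_ne_one' (N := N)) (uw : SLtwo F) * SLStd.emb qr_ne (upper 1)) weyl,
      cm (SLStd.emb qr_ne weyl) weyl] := by
  refine ⟨fun B hB => ?_, fun G _ A B h => ?_⟩
  · simp only [List.forall_mem_cons, List.not_mem_nil, IsEmpty.forall_iff, implies_true, and_true]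
    exact ⟨mid_model B hB _, twist_model B hB _,
      cm_model B hB (mul_mem (low_mem0 _) (fork_mem0 _)) _, cm_model B hB (mul_mem (low_mem0 _) (fork_mem0 _)) _,
      cm_model B hB (fork_mem0 _) _⟩
  simp only [List.forall_mem_cons, List.not_mem_nil, IsEmpty.forall_iff, implies_true, and_true, eval_midRel, eval_twistRel, eval_cm] at h
  obtain ⟨h1, h2, hgu, hgw, hww⟩ := h
  set t := B (FreeGroup.of ())
  have h2F : (2 : F) = 0 := char_two_of_card hq
  obtain ⟨hM, htt⟩ := midComm_of_twist hN hm h1 h2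
  rw [map_mul] at hgu hgw
  have hord1 : A (SLStd.emb (zero_ne_one' (N := N)) (uw : SLtwo F)) ^ 3 = 1 := by
    rw [← map_pow, ← map_pow, uw_pow_three, map_one, map_one]
  have hord2 : A (SLStd.emb (qr_ne (N := N)) (upper 1 : SLtwo F)) ^ 2 = 1 := by
    rw [← map_pow, ← map_pow, upper_sq h2F, map_one, map_one]
  obtain ⟨hxu, huu⟩ := commute_parts ((disj_commute _ _).map A) hord1 hord2 (by decide) hgu
  obtain ⟨hxw, huw⟩ := commute_parts ((disj_commute _ _).map A) hord1 hord2 (by decide) hgw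
  have top : ∀ g, Commute (A g) (sig A t (upper 1)) → Commute (A g) (sig A t weyl) → g ∈ cen A t := fun g e1 e2 =>
    mem_cen_of_top (eq_top_of_weyl_uw hgen (by omega) _ (mem_comSet.2 e2)
      (mul_mem (mem_comSet.2 e1) (mem_comSet.2 e2)))
  have hx' := top _ hxu hxw
  have hu := top _ huu huw
  have hw : SLStd.emb (qr_ne (N := N)) (weyl : SLtwo F) ∈ cen A t :=
    top _ (comm_symm htt ((mem_cen A t).1 hu weyl)) hww
  obtain ⟨e1, e2, e3⟩ := uw_entries (F := F)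
  exact ⟨⟨hM, low_of_elem hM hN e1 e2 e3 hx', cen_emb_small (by omega) hgen qr_ne hu
    (by rw [uw, map_mul]; exact mul_mem hu hw)⟩, by simp [neg_one_diag h2F]⟩

include hm in
theorem solves_two_four (hN : N = 0) (hq : Fintype.card F = 2) {ω : Fˣ}
    (hgen : ∀ s : F, s ≠ 0 → ∃ k : ℕ, (ω : F) ^ k = s) :
    Solves [midRel m₁, midRel m₂,
      cm (SLStd.emb (zero_ne_one' (N := N)) (uw : SLtwo F) * SLStd.emb qr_ne (upper 1)) (upper 1),
      cm (SLStd.emb (zero_ne_one' (N := N)) (uw : SLtwo F) * SLStd.emb qr_ne (upper 1)) weyl,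
      cm (SLStd.emb (zero_ne_one' (N := N)) (upper 1) * SLStd.emb qr_ne (uw : SLtwo F)) (upper 1),
      cm (SLStd.emb (zero_ne_one' (N := N)) (upper 1) * SLStd.emb qr_ne (uw : SLtwo F)) weyl] := by
  refine ⟨fun B hB => ?_, fun G _ A B h => ?_⟩
  · simp only [List.forall_mem_cons, List.not_mem_nil, IsEmpty.forall_iff, implies_true, and_true]
    exact ⟨mid_model B hB _, mid_model B hB _,
      cm_model B hB (mul_mem (low_mem0 _) (fork_mem0 _)) _, cm_model B hB (mul_mem (low_mem0 _) (fork_mem0 _)) _,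
      cm_model B hB (mul_mem (low_mem0 _) (fork_mem0 _)) _, cm_model B hB (mul_mem (low_mem0 _) (fork_mem0 _)) _⟩
  simp only [List.forall_mem_cons, List.not_mem_nil, IsEmpty.forall_iff, implies_true, and_true, eval_midRel, eval_cm] at h
  obtain ⟨h1, h2, hgu, hgw, hku, hkw⟩ := h
  set t := B (FreeGroup.of ())
  have h2F : (2 : F) = 0 := char_two_of_card hq
  have hM : MidComm A t := midComm_of_gens hm h1 h2
  rw [map_mul] at hgu hgw hku hkw
  have o3 : ∀ {a b : Fin (N + 4)} (hab : a ≠ b), A (SLStd.emb hab (uw : SLtwo F)) ^ 3 = 1 := fun hab => by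
    rw [← map_pow, ← map_pow, uw_pow_three, map_one, map_one]
  have o2 : ∀ {a b : Fin (N + 4)} (hab : a ≠ b), A (SLStd.emb hab (upper 1 : SLtwo F)) ^ 2 = 1 := fun hab => by
    rw [← map_pow, ← map_pow, upper_sq h2F, map_one, map_one]
  obtain ⟨p1, p2⟩ := commute_parts ((disj_commute _ _).map A) (o3 _) (o2 _) (by decide) hgu
  obtain ⟨p3, p4⟩ := commute_parts ((disj_commute _ _).map A) (o3 _) (o2 _) (by decide) hgw
  obtain ⟨p5, p6⟩ := commute_parts ((disj_commute _ _).map A) (o2 _) (o3 _) (by decide) hku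
  obtain ⟨p7, p8⟩ := commute_parts ((disj_commute _ _).map A) (o2 _) (o3 _) (by decide) hkw
  have top : ∀ g, Commute (A g) (sig A t (upper 1)) → Commute (A g) (sig A t weyl) → g ∈ cen A t := fun g e1 e2 =>
    mem_cen_of_top (eq_top_of_weyl_uw hgen (by omega) _ (mem_comSet.2 e2)
      (mul_mem (mem_comSet.2 e1) (mem_comSet.2 e2)))
  exact ⟨⟨hM, low_zero hN (cen_emb_small (by omega) hgen _ (top _ p5 p7) (top _ p1 p3)),
    cen_emb_small (by omega) hgen qr_ne (top _ p2 p4) (top _ p6 p8)⟩, by simp [neg_one_diag h2F]⟩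

end SmallField

end Cfsg.Agent.Lib.OmegaPlusPres
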