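import Mathlib
import Cfsg.Agent.Lib.LieRecog.SignedCentral
import Cfsg.Agent.Lib.BoundedPresentation.SLTwoPres

/-!
Single elements of `SL₂` which generate it with the help of diagonal rescalings.
-/

set_option autoImplicit false
set_option linter.unusedSimpArgs false

namespace Cfsg.Agent.Lib.OmegaPlusPres

open Matrix Cfsg.Agent.Lib.SL2 Cfsg.Agent.Lib.LieRecog Cfsg.Agent.Lib.LieRecog.DSys Cfsg.Agent.Lib.BoundedPresentation

variable {F : Type*} [Field F]

/-- The companion matrix of `X² - αX + 1`. -/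
def comp2 (α : F) : SLtwo F := ofEntries α (-1) 1 0 (by ring)

/-- The product of the two standard elements. -/
def uw : SLtwo F := upper 1 * weyl

theorem sc2_00 (s : Fˣ) (g : SLtwo F) : sc2 s g 0 0 = g 0 0 := rfl
theorem sc2_01 (s : Fˣ) (g : SLtwo F) : sc2 s g 0 1 = (s : F) * g 0 1 := rfl
theorem sc2_10 (s : Fˣ) (g : SLtwo F) : sc2 s g 1 0 = ((s⁻¹ : Fˣ) : F) * g 1 0 := rfl
theorem sc2_11 (s : Fˣ) (g : SLtwo F) : sc2 s g 1 1 = g 1 1 := rfl

theorem sc2_sc2 (s s' : Fˣ) (g : SLtwo F) : sc2 s (sc2 s' g) = sc2 (s * s') g := by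
  apply ext_entries <;> simp [sc2_00, sc2_01, sc2_10, sc2_11] <;> ring

theorem sc2_one (g : SLtwo F) : sc2 1 g = g := by
  apply ext_entries <;> simp [sc2_00, sc2_01, sc2_10, sc2_11]

theorem diag_conj_eq_sc2 (μ : Fˣ) (g : SLtwo F) : SL2.diag μ * g * (SL2.diag μ)⁻¹ = sc2 (μ ^ 2) g := by
  apply ext_entries <;>
    simp [sc2_00, sc2_01, sc2_10, sc2_11, ofEntries_coe, mul_00, mul_01, mul_10, mul_11, inv_00, inv_01, inv_10, inv_11, pow_two] <;>
    field_simp

variable [Fintype F] {ω : Fˣ}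
variable (hq : 4 ≤ Fintype.card F) (hgen : ∀ t : F, t ≠ 0 → ∃ n : ℕ, (ω : F) ^ n = t)
variable (hspan : ∀ S : AddSubgroup F, (1 : F) ∈ S → (∀ t ∈ S, (ω : F) ^ 2 * t ∈ S) → ∀ t, t ∈ S)

include hq hgen in
theorem omega_sq_ne : (ω : F) ^ 2 ≠ 1 := by
  classical
  intro h
  have hsub : (Finset.univ : Finset F) ⊆ {0, 1, (ω : F)} := by
    intro t _
    rcases eq_or_ne t 0 with rfl | ht
    · simp
    obtain ⟨n, rfl⟩ := hgen t ht
    rcases Nat.even_or_odd n with ⟨l, rfl⟩ | ⟨l, rfl⟩
    · simp [← two_mul, pow_mul, h]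
    · simp [pow_add, pow_mul, h]
  have h3 := (Finset.card_le_card hsub).trans Finset.card_le_three
  rw [Finset.card_univ] at h3
  omega

include hq hgen hspan in
/-- A group with squared rescalings, a companion matrix and a proper upper triangular element. -/
theorem eq_top_of_triangular (H : Subgroup (SLtwo F)) (hinv : ∀ h ∈ H, sc2 (ω ^ 2) h ∈ H) {α : F}
    (hA : comp2 α ∈ H) {b : SLtwo F} (hb : b ∈ H) (h10 : b 1 0 = 0) (h01 : b 0 1 ≠ 0) : H = ⊤ := by
  have hd := det_entries b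
  rw [h10, mul_zero, sub_zero] at hd
  set d := ((ω : F) ^ 2 - 1) * (b 0 0 * b 0 1) with hdd
  have hd0 : d ≠ 0 :=
    mul_ne_zero (sub_ne_zero.2 (omega_sq_ne hq hgen)) (mul_ne_zero (left_ne_zero_of_mul (hd.trans_ne one_ne_zero)) h01)
  have h1 : upper d ∈ H := by
    have := mul_mem (hinv b hb) (inv_mem hb)
    convert this using 1
    apply ext_entries <;>
      simp [sc2_00, sc2_01, sc2_10, sc2_11, ofEntries_coe, mul_00, mul_01, mul_10, mul_11, inv_00, inv_01, inv_10, inv_11, h10, d]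
    · linear_combination -hd
    · ring
    · linear_combination -hd
  let K : AddSubgroup F :=
    { carrier := {t | upper (d * t) ∈ H}
      zero_mem' := by simp [upper_zero]
      add_mem' := fun {p r} hp hr => by
        show upper (d * (p + r)) ∈ H
        rw [mul_add, ← upper_mul]; exact mul_mem hp hr
      neg_mem' := fun {p} hp => by
        show upper (d * -p) ∈ H
        rw [mul_neg, ← upper_inv]; exact inv_mem hp }
  have hK := hspan K (by show upper (d * 1) ∈ H; rwa [mul_one]) (fun t ht => by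
    show upper (d * ((ω : F) ^ 2 * t)) ∈ H
    rw [mul_left_comm, show ((ω : F) ^ 2) = ((ω ^ 2 : Fˣ) : F) from (Units.val_pow_eq_pow_val _ _).symm,
      ← sc2_upper]
    exact hinv _ ht)
  have hup : ∀ t, upper t ∈ H := fun t => by
    have := hK (t / d)
    change upper _ ∈ H at this
    rwa [mul_div_cancel₀ t hd0] at this
  refine top_le_iff.1 (le_of_eq_of_le (Cfsg.Agent.Lib.LinGroup.closure_upper_lower (H := H) hup fun t => ?_).symm le_rfl)
  have := mul_mem (mul_mem (inv_mem hA) (hup (-t))) hA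
  convert this using 1
  apply ext_entries <;> simp [comp2, ofEntries_coe, mul_00, mul_01, mul_10, mul_11, inv_00, inv_01, inv_10, inv_11]

include hq hgen hspan in
theorem eq_top_of_diag (H : Subgroup (SLtwo F)) (hd : SL2.diag ω ∈ H) {α : F} (hα : α ≠ 0)
    (hA : comp2 α ∈ H) : H = ⊤ := by
  refine eq_top_of_triangular hq hgen hspan H (fun h hh => ?_) hA (mul_mem (mul_mem hA hd) (inv_mem hA)) ?_ ?_
  · rw [← diag_conj_eq_sc2]; exact mul_mem (mul_mem hd hh) (inv_mem hd)
  · simp [comp2, ofEntries_coe, mul_00, mul_01, mul_10, mul_11, inv_00, inv_01, inv_10, inv_11]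
  · have hne := omega_sq_ne hq hgen
    simp [comp2, ofEntries_coe, mul_00, mul_01, mul_10, mul_11, inv_00, inv_01, inv_10, inv_11]
    intro h
    apply hne
    have h' : α * ((ω : F) - (ω : F)⁻¹) = 0 := by linear_combination h
    have h'' := (mul_eq_zero.1 h').resolve_left hα
    field_simp at h''
    linear_combination h''

include hq hgen hspan in
theorem eq_top_of_orbit (H : Subgroup (SLtwo F)) {α : F} (hα : α ≠ 0)
    (hA : ∀ μ : Fˣ, sc2 (μ ^ 2) (comp2 α) ∈ H) : H = ⊤ := by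
  set K := Subgroup.closure (Set.range fun μ : Fˣ => sc2 (μ ^ 2) (comp2 α)) with hK
  have hKH : K ≤ H := (Subgroup.closure_le _).2 (by rintro _ ⟨μ, rfl⟩; exact hA μ)
  have hA' : comp2 α ∈ K := Subgroup.subset_closure ⟨1, by simp [sc2_one]⟩
  refine top_le_iff.1 (le_of_eq_of_le (eq_top_of_triangular hq hgen hspan K (fun h hh => ?_) hA'
    (mul_mem (Subgroup.subset_closure ⟨ω, rfl⟩) (inv_mem hA')) ?_ ?_).symm hKH)
  · have : K ≤ K.comap (sc2 (ω ^ 2)) := (Subgroup.closure_le _).2 (by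
      rintro _ ⟨μ, rfl⟩
      exact Subgroup.subset_closure ⟨ω * μ, by simp only [sc2_sc2, mul_pow]⟩)
    exact this hh
  · simp [comp2, sc2_00, sc2_01, sc2_10, sc2_11, ofEntries_coe, mul_00, mul_01, mul_10, mul_11, inv_00, inv_01, inv_10, inv_11]
  · have hne := omega_sq_ne hq hgen
    simp [comp2, sc2_00, sc2_01, sc2_10, sc2_11, ofEntries_coe, mul_00, mul_01, mul_10, mul_11, inv_00, inv_01, inv_10, inv_11]
    intro h
    apply hne
    have h' : α * (1 - (ω : F) ^ 2) = 0 := by linear_combination h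
    linear_combination -((mul_eq_zero.1 h').resolve_left hα)

/-- Separating a product of commuting elements of coprime orders. -/
theorem commute_parts {G : Type*} [Group G] {a b y : G} {m n : ℕ} (hab : Commute a b) (ha : a ^ m = 1)
    (hb : b ^ n = 1) (hmn : Nat.Coprime m n) (h : Commute (a * b) y) : Commute a y ∧ Commute b y := by
  obtain ⟨k, hk1, hk2⟩ := Nat.chineseRemainder hmn 1 0
  have ea : a ^ k = a := by
    have := pow_eq_pow_of_modEq hk1 ha
    rwa [pow_one] at this
  have eb : b ^ k = 1 := by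
    have := pow_eq_pow_of_modEq hk2 hb
    rwa [pow_zero] at this
  have key : Commute a y := by
    have := h.pow_left k
    rwa [hab.mul_pow, ea, eb, mul_one] at this
  refine ⟨key, ?_⟩
  have := key.inv_left.mul_left h
  rwa [inv_mul_cancel_left] at this

theorem pow_coe_two (p : ℕ) [CharP F p] [Fact p.Prime] : comp2 (2 : F) ^ p = 1 := by
  have hN : ((comp2 (2 : F) : Matrix (Fin 2) (Fin 2) F) - 1) * ((comp2 (2 : F) : Matrix (Fin 2) (Fin 2) F) - 1) = 0 := by
    ext i j; fin_cases i <;> fin_cases j <;>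
      simp [comp2, ofEntries_coe, Matrix.mul_apply, Fin.sum_univ_two, Matrix.one_apply] <;> ring
  refine Subtype.ext ?_
  rw [Matrix.SpecialLinearGroup.coe_pow, Matrix.SpecialLinearGroup.coe_one]
  set M := (comp2 (2 : F) : Matrix (Fin 2) (Fin 2) F) with hM
  have key : ∀ n : ℕ, M ^ n = 1 + n • (M - 1) := by
    intro n
    induction n with
    | zero => simp
    | succ n ih =>
      rw [pow_succ, ih, add_mul, one_mul, smul_mul_assoc, succ_nsmul,
        show (M - 1) * M = M - 1 by rw [show (M - 1) * M = (M - 1) * (M - 1) + (M - 1) by rw [mul_sub, mul_one]; abel, hN, zero_add]]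
      abel
  rw [key, ← Nat.cast_smul_eq_nsmul F, CharP.cast_eq_zero, zero_smul, add_zero]

omit [Fintype F] in
theorem diag_pow_eq_one [Fintype F] (u : Fˣ) : SL2.diag u ^ (Fintype.card F - 1) = 1 := by
  have h : ∀ n : ℕ, SL2.diag u ^ n = SL2.diag (u ^ n) := by
    intro n
    induction n with
    | zero => simp [SL2.diag_one]
    | succ n ih => rw [pow_succ, ih, SL2.diag_mul, pow_succ]
  rw [h, show u ^ (Fintype.card F - 1) = 1 from Units.ext (by
    rw [Units.val_pow_eq_pow_val]; exact FiniteField.pow_card_sub_one_eq_one _ u.ne_zero), SL2.diag_one]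

theorem uw_pow_three : (uw : SLtwo F) ^ 3 = 1 := by
  apply ext_entries <;> simp [uw, pow_succ, mul_00, mul_01, mul_10, mul_11, weyl, upper, ofEntries_coe]

theorem weyl_pow_four : (weyl : SLtwo F) ^ 4 = 1 := by
  apply ext_entries <;> simp [pow_succ, mul_00, mul_01, mul_10, mul_11, weyl, ofEntries_coe]

omit [Fintype F] in
theorem upper_pow_char [Fintype F] (p : ℕ) [CharP F p] : (upper (1 : F)) ^ p = 1 := by
  rw [upper_pow, CharP.cast_eq_zero, zero_mul, upper_zero]

theorem uw_entries : (uw : SLtwo F) 1 1 = 0 ∧ (uw : SLtwo F) 0 1 ≠ 0 ∧ (uw : SLtwo F) 1 0 ≠ 0 := by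
  simp [uw, mul_01, mul_10, mul_11, weyl, upper, ofEntries_coe]

theorem comp2_entries (α : F) :
    (comp2 α : SLtwo F) 1 1 = 0 ∧ (comp2 α : SLtwo F) 0 1 ≠ 0 ∧ (comp2 α : SLtwo F) 1 0 ≠ 0 := by
  simp [comp2, ofEntries_coe]

include hgen in
theorem eq_top_of_weyl_uw (hq3 : Fintype.card F < 4) (H : Subgroup (SLtwo F)) (h1 : weyl ∈ H) (h2 : uw ∈ H) : H = ⊤ :=
  top_le_iff.1 (by
    rw [← closure_weyl_uw hq3 hgen, Subgroup.closure_le]
    rintro _ (rfl | rfl) <;> assumption)

include hgen in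
theorem eq_top_of_upper_uw (hq3 : Fintype.card F < 4) (H : Subgroup (SLtwo F)) (h1 : upper 1 ∈ H) (h2 : uw ∈ H) : H = ⊤ :=
  eq_top_of_weyl_uw hgen hq3 H (by
    have := mul_mem (inv_mem h1) h2
    rwa [uw, inv_mul_cancel_left] at this) h2

include hgen in
theorem eq_top_of_uw_neg (hq3 : Fintype.card F = 3) (H : Subgroup (SLtwo F)) (h1 : uw ∈ H)
    (h2 : sc2 (-1) (uw : SLtwo F) ∈ H) : H = ⊤ := by
  have : CharP F 3 := by
    obtain ⟨p, hp⟩ := CharP.exists F
    obtain ⟨d, hpr, hc⟩ := FiniteField.card F p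
    rw [hq3] at hc
    rwa [(Nat.prime_eq_prime_of_dvd_pow (m := 1) (p := p) hpr Nat.prime_three
      (by rw [pow_one, hc]; exact dvd_pow_self _ d.pos.ne'))] at hp
  have h3 : (3 : F) = 0 := by exact_mod_cast CharP.cast_eq_zero F 3
  refine eq_top_of_upper_uw hgen (by omega) H ?_ h1
  have hm := mul_mem h1 (inv_mem h2)
  have hpow := pow_mem hm 2
  convert hpow using 1
  apply ext_entries <;>
    simp [uw, sc2_00, sc2_01, sc2_10, sc2_11, pow_two, mul_00, mul_01, mul_10, mul_11, inv_00, inv_01, inv_10, inv_11, weyl, upper, ofEntries_coe] <;>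
    grind

end Cfsg.Agent.Lib.OmegaPlusPres
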