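import Cfsg.Agent.Lib.LieRecog.SignedBuild
import Cfsg.Agent.Lib.CTRecog.Rels
import Cfsg.Agent.Lib.OmegaPlusPres.TwoGen

/-!
A copy of `SL_n` and a sign change of two coordinates give root elements of type `D`.
-/

set_option autoImplicit false
set_option linter.unusedSimpArgs false
set_option linter.unusedSectionVars false

namespace Cfsg.Agent.Lib.OmegaPlusPres

open Matrix Cfsg.Agent.Lib.SL2 Cfsg.Agent.Lib.LieRecog Cfsg.Agent.Lib.LieRecog.DSys Cfsg.Agent.Lib.BoundedPresentation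

section Emb

variable {Ω : Type} [DecidableEq Ω] [Fintype Ω] {F : Type*} [Field F]

theorem emb_upper_eq {a b : Ω} (h : a ≠ b) (t : F) :
    (SLStd.emb h (upper t) : SpecialLinearGroup Ω F) = elN a b t :=
  Subtype.ext ((SLStd.emb_upper h t).trans (coe_elN h t).symm)

theorem emb_lower_eq {a b : Ω} (h : a ≠ b) (t : F) :
    (SLStd.emb h (lower t) : SpecialLinearGroup Ω F) = elN b a t :=
  Subtype.ext ((SLStd.emb_lower h t).trans (coe_elN h.symm t).symm)

theorem elN_comm {a b c d : Ω} (hab : a ≠ b) (hcd : c ≠ d) (h1 : b ≠ c) (h2 : d ≠ a) (s t : F) :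
    Commute (elN a b s : SpecialLinearGroup Ω F) (elN c d t) := by
  refine Subtype.ext ?_
  show (elN a b s).1 * (elN c d t).1 = (elN c d t).1 * (elN a b s).1
  rw [coe_elN hab, coe_elN hcd]
  exact SLStd.tv_comm h1 h2 s t

theorem up_eq_upper (t : F) : (up t : SLtwo F) = upper t := by
  refine Subtype.ext ?_
  rw [up, LinGroup.coe_transvection]
  ext i j; fin_cases i <;> fin_cases j <;> simp [upper, ofEntries_coe, Matrix.transvection]

theorem lo_eq_lower (t : F) : (lo t : SLtwo F) = lower t := by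
  refine Subtype.ext ?_
  rw [lo, LinGroup.coe_transvection]
  ext i j; fin_cases i <;> fin_cases j <;> simp [lower, ofEntries_coe, Matrix.transvection]

theorem emb_entries {a b : Ω} (h : a ≠ b) (g : SLtwo F) :
    ((SLStd.emb h g : SpecialLinearGroup Ω F) : Matrix Ω Ω F) =
      1 + (Matrix.single a a (g 0 0 - 1) + Matrix.single a b (g 0 1) +
        (Matrix.single b a (g 1 0) + Matrix.single b b (g 1 1 - 1))) := by
  rw [SLStd.emb_coe, SLStd.embMat, show ((g : SLtwo F) : Matrix (Fin 2) (Fin 2) F) - 1 =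
      (Matrix.single 0 0 (g 0 0 - 1) + Matrix.single 0 1 (g 0 1)) +
        (Matrix.single 1 0 (g 1 0) + Matrix.single 1 1 (g 1 1 - 1)) by
    ext i k; fin_cases i <;> fin_cases k <;> simp]
  simp only [Matrix.mul_add, Matrix.add_mul, SLStd.inc_single_prj]
  rfl

theorem emb_move_left {a b c : Ω} (hab : a ≠ b) (hca : c ≠ a) (hcb : c ≠ b) {g : SLtwo F} (h11 : g 1 1 = 0)
    (s : F) : SLStd.emb hab g * elN b c s * (SLStd.emb hab g)⁻¹ = elN a c (g 0 1 * s) := by
  rw [mul_inv_eq_iff_eq_mul]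
  refine Subtype.ext ?_
  show (SLStd.emb hab g : SpecialLinearGroup Ω F).1 * (elN b c s).1 = (elN a c (g 0 1 * s)).1 * (SLStd.emb hab g : SpecialLinearGroup Ω F).1
  rw [coe_elN hcb.symm, coe_elN hca.symm, Matrix.mul_add, Matrix.add_mul, Matrix.mul_one, Matrix.one_mul,
    emb_entries hab, h11, zero_sub]
  congr 1
  simp [Matrix.add_mul, Matrix.mul_add, hab, hab.symm, hca, hca.symm, hcb, hcb.symm]
  rw [← Matrix.single_neg]
  abel

theorem emb_move_right {a b c : Ω} (hab : a ≠ b) (hca : c ≠ a) (hcb : c ≠ b) {g : SLtwo F} (h11 : g 1 1 = 0)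
    (s : F) : (SLStd.emb hab g)⁻¹ * elN c b s * SLStd.emb hab g = elN c a (g 1 0 * s) := by
  rw [mul_assoc, inv_mul_eq_iff_eq_mul]
  refine Subtype.ext ?_
  show (elN c b s).1 * (SLStd.emb hab g : SpecialLinearGroup Ω F).1 = (SLStd.emb hab g : SpecialLinearGroup Ω F).1 * (elN c a (g 1 0 * s)).1
  rw [coe_elN hcb, coe_elN hca, Matrix.mul_add, Matrix.add_mul, Matrix.mul_one, Matrix.one_mul,
    emb_entries hab, h11, zero_sub]
  congr 1
  simp [Matrix.add_mul, Matrix.mul_add, hab, hab.symm, hca, hca.symm, hcb, hcb.symm, mul_comm]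
  rw [← Matrix.single_neg]
  abel

theorem elN_chain {a b c : Ω} (hab : a ≠ b) (hbc : b ≠ c) (hac : a ≠ c) (s t : F) :
    (elN a b s : SpecialLinearGroup Ω F) * elN b c t * (elN a b s)⁻¹ * (elN b c t)⁻¹ = elN a c (s * t) := by
  have e : ∀ {i j : Ω} (_ : i ≠ j) (u : F), (elN i j u : SpecialLinearGroup Ω F) =
      if h : i ≠ j then SpecialLinearGroup.transvection h u else 1 := fun {i j} h u => by
    rw [elN, dif_neg h, dif_pos h]
  rw [e hab, e hbc, e hac]
  exact Cfsg.Agent.Lib.CTRecog.srels_transvection.chain hab hbc hac s t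

end Emb

variable {N : ℕ} {F : Type*} [Field F] {G : Type*} [Group G]

/-- The coordinates fixed by the sign change. -/
def mid (N : ℕ) : Fin (N + 2) → Fin (N + 4) := fun i => ⟨i.val + 1, by omega⟩

theorem mid_inj : Function.Injective (mid N) := fun i j h => by
  simp [mid, Fin.ext_iff] at h ⊢; exact h

/-- The special linear group on the fixed coordinates. -/
def midHom : SpecialLinearGroup (Fin (N + 2)) F →* SpecialLinearGroup (Fin (N + 4)) F := embN mid_inj

theorem elN_mem_mid {a b : Fin (N + 4)} (h : a ≠ b) (ha : 1 ≤ a.val ∧ a.val ≤ N + 2) (hb : 1 ≤ b.val ∧ b.val ≤ N + 2)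
    (s : F) : elN a b s ∈ (midHom (N := N) (F := F)).range := by
  refine ⟨elN ⟨a.val - 1, by omega⟩ ⟨b.val - 1, by omega⟩ s, ?_⟩
  rw [midHom, embN_elN]
  · congr <;> simp [mid, Fin.ext_iff] <;> omega
  · simp [Fin.ext_iff] at h ⊢; omega

variable (Φ : SpecialLinearGroup (Fin (N + 4)) F →* G) (t : G)

/-- The copy of `SL₂` at the fork. -/
def sig : SLtwo F →* G := (MulAut.conj t).toMonoidHom.comp (Φ.comp (SLStd.emb qr_ne))

theorem sig_apply (v : SLtwo F) : sig Φ t v = t * Φ (SLStd.emb qr_ne v) * t⁻¹ := rfl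

/-- The elements commuting with the copy at the fork. -/
def cen : Subgroup (SpecialLinearGroup (Fin (N + 4)) F) :=
  (Subgroup.centralizer ((sig Φ t).range : Set G)).comap Φ

theorem mem_cen {g : SpecialLinearGroup (Fin (N + 4)) F} :
    g ∈ cen Φ t ↔ ∀ v, Commute (Φ g) (sig Φ t v) := by
  rw [cen, Subgroup.mem_comap, Subgroup.mem_centralizer_iff]
  exact ⟨fun h v => (h _ ⟨v, rfl⟩).symm, fun h x ⟨v, e⟩ => e ▸ (h v).eq.symm⟩

/-- The fixed coordinates commute with the sign change. -/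
def MidComm : Prop := ∀ m : SpecialLinearGroup (Fin (N + 2)) F, Commute t (Φ (midHom m))

variable {Φ t}

theorem MidComm.conj_elN (hM : MidComm Φ t) {a b : Fin (N + 4)} (h : a ≠ b) (ha : 1 ≤ a.val ∧ a.val ≤ N + 2)
    (hb : 1 ≤ b.val ∧ b.val ≤ N + 2) (s : F) : t * Φ (elN a b s) * t⁻¹ = Φ (elN a b s) := by
  obtain ⟨m, hm⟩ := elN_mem_mid h ha hb s
  rw [← hm, (hM m).eq, mul_inv_cancel_right]

theorem MidComm.middle_mem_cen (hM : MidComm Φ t) {a b : Fin (N + 4)} (h : a ≠ b) (ha : 1 ≤ a.val ∧ a.val ≤ N + 1)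
    (hb : 1 ≤ b.val ∧ b.val ≤ N + 1) (s : F) : elN a b s ∈ cen Φ t := by
  rw [mem_cen]
  intro v
  have hc : ∀ v, Commute (elN a b s) (SLStd.emb (qr_ne (N := N)) v) := by
    intro v
    have : (⊤ : Subgroup (SLtwo F)) ≤ (Subgroup.centralizer {elN a b s}).comap (SLStd.emb (qr_ne (N := N))) := by
      rw [← Cfsg.Agent.Lib.LinGroup.closure_upper_lower
        (H := (Subgroup.centralizer {elN a b s}).comap (SLStd.emb (qr_ne (N := N)))) (fun u => ?_) (fun u => ?_)] <;>
        rw [Subgroup.mem_comap, Subgroup.mem_centralizer_singleton_iff]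
      · rw [emb_upper_eq]
        exact (elN_comm h qr_ne (by simp [Fin.ext_iff]; omega) (by simp [Fin.ext_iff]; omega) s u).eq.symm
      · rw [emb_lower_eq]
        exact (elN_comm h qr_ne.symm (by simp [Fin.ext_iff]; omega) (by simp [Fin.ext_iff]; omega) s u).eq.symm
    exact (Subgroup.mem_centralizer_singleton_iff.1 (this (Subgroup.mem_top v))).symm
  have := ((hc v).map Φ).map (MulAut.conj t).toMonoidHom
  simpa [hM.conj_elN h ⟨ha.1, by omega⟩ ⟨hb.1, by omega⟩, sig_apply] using this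

/-- The two coordinates suffice. -/
theorem low_of_elem (hM : MidComm Φ t) (hN : 1 ≤ N) {g : SLtwo F} (h11 : g 1 1 = 0) (h01 : g 0 1 ≠ 0)
    (h10 : g 1 0 ≠ 0) (hg : SLStd.emb (show (0 : Fin (N + 4)) ≠ 1 by simp) g ∈ cen Φ t) :
    ∀ a b : Fin (N + 4), a ≠ b → a.val ≤ N + 1 → b.val ≤ N + 1 → ∀ s, elN a b s ∈ cen Φ t := by
  intro a b hab ha hb
  have one : (1 : Fin (N + 4)).val = 1 := rfl
  have zero : (0 : Fin (N + 4)).val = 0 := rfl
  have ne : ∀ {x y : Fin (N + 4)}, x.val ≠ y.val → x ≠ y := fun h e => h (congrArg Fin.val e)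
  have left : ∀ c : Fin (N + 4), 2 ≤ c.val → c.val ≤ N + 1 → ∀ s, elN 0 c s ∈ cen Φ t := fun c h2 h3 s => by
    have := mul_mem (mul_mem hg (hM.middle_mem_cen (a := 1) (b := c) (ne (by omega))
      (by omega) (by omega) (s / g 0 1))) (inv_mem hg)
    rwa [emb_move_left _ (ne (by omega)) (ne (by omega)) h11, mul_div_cancel₀ _ h01] at this
  have right : ∀ c : Fin (N + 4), 2 ≤ c.val → c.val ≤ N + 1 → ∀ s, elN c 0 s ∈ cen Φ t := fun c h2 h3 s => by
    have := mul_mem (mul_mem (inv_mem hg) (hM.middle_mem_cen (a := c) (b := 1) (ne (by omega))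
      (by omega) (by omega) (s / g 1 0))) hg
    rwa [emb_move_right _ (ne (by omega)) (ne (by omega)) h11, mul_div_cancel₀ _ h10] at this
  let c : Fin (N + 4) := ⟨2, by omega⟩
  have left' : ∀ b : Fin (N + 4), b ≠ 0 → b.val ≤ N + 1 → ∀ s, elN 0 b s ∈ cen Φ t := fun b hb0 hb s => by
    have hb0' : b.val ≠ 0 := fun e => hb0 (Fin.ext e)
    by_cases hb2 : 2 ≤ b.val
    · exact left b hb2 hb s
    obtain rfl : b = 1 := Fin.ext (by omega)
    have h1 := left c le_rfl (show 2 ≤ N + 1 by omega) s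
    have h2 := hM.middle_mem_cen (a := c) (b := 1) (ne (by show _ ≠ _; simp only [c, one, zero]; omega)) ⟨Nat.le_succ _, show 2 ≤ N + 1 by omega⟩
      (by omega) 1
    have := mul_mem (mul_mem (mul_mem h1 h2) (inv_mem h1)) (inv_mem h2)
    rwa [elN_chain (ne (by show _ ≠ _; simp only [c, one, zero]; omega)) (ne (by show _ ≠ _; simp only [c, one, zero]; omega)) (ne (by omega)), mul_one] at this
  have right' : ∀ b : Fin (N + 4), b ≠ 0 → b.val ≤ N + 1 → ∀ s, elN b 0 s ∈ cen Φ t := fun b hb0 hb s => by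
    have hb0' : b.val ≠ 0 := fun e => hb0 (Fin.ext e)
    by_cases hb2 : 2 ≤ b.val
    · exact right b hb2 hb s
    obtain rfl : b = 1 := Fin.ext (by omega)
    have h1 := hM.middle_mem_cen (a := 1) (b := c) (ne (by show _ ≠ _; simp only [c, one, zero]; omega)) (by omega)
      ⟨Nat.le_succ _, show 2 ≤ N + 1 by omega⟩ s
    have h2 := right c le_rfl (show 2 ≤ N + 1 by omega) 1
    have := mul_mem (mul_mem (mul_mem h1 h2) (inv_mem h1)) (inv_mem h2)
    rwa [elN_chain (ne (by show _ ≠ _; simp only [c, one, zero]; omega)) (ne (by show _ ≠ _; simp only [c, one, zero]; omega)) (ne (by omega)), mul_one] at this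
  intro s
  by_cases ha0 : a = 0
  · subst ha0; exact left' b (Ne.symm hab) hb s
  by_cases hb0 : b = 0
  · subst hb0; exact right' a hab ha s
  have ha0' : a.val ≠ 0 := fun e => ha0 (Fin.ext e)
  have hb0' : b.val ≠ 0 := fun e => hb0 (Fin.ext e)
  exact hM.middle_mem_cen hab ⟨by omega, ha⟩ ⟨by omega, hb⟩ s

/-- The hypotheses at the fork. -/
structure ForkRels (Φ : SpecialLinearGroup (Fin (N + 4)) F →* G) (t : G) : Prop where
  mid_comm : MidComm Φ t
  low : ∀ a b : Fin (N + 4), a ≠ b → a.val ≤ N + 1 → b.val ≤ N + 1 → ∀ s, elN a b s ∈ cen Φ t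
  qr : ∀ v, SLStd.emb qr_ne v ∈ cen Φ t

theorem pqr_inj : Function.Injective ![pIx N, qIx N, rIx N] := by
  intro i j h
  fin_cases i <;> fin_cases j <;> simp [Fin.ext_iff] at h ⊢

/-- The data at the fork. -/
def ForkRels.toFork (R : ForkRels Φ t) : ForkData N F G where
  Φ := Φ
  ψ := (MulAut.conj t).toMonoidHom.comp (Φ.comp (embN pqr_inj))
  σ := sig Φ t
  edgeA s := by
    refine ⟨?_, ?_⟩ <;>
      simp only [MonoidHom.comp_apply, MulEquiv.coe_toMonoidHom, MulAut.conj_apply] <;>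
      rw [embN_elN _ (by decide)] <;> simp only [Matrix.cons_val_zero, Matrix.cons_val_one]
    · exact R.mid_comm.conj_elN pq_ne ⟨Nat.le_add_left _ _, Nat.le_succ _⟩ ⟨Nat.le_add_left _ _, le_rfl⟩ s
    · exact R.mid_comm.conj_elN pq_ne.symm ⟨Nat.le_add_left _ _, le_rfl⟩ ⟨Nat.le_add_left _ _, Nat.le_succ _⟩ s
  edgeB s := by
    refine ⟨?_, ?_⟩ <;>
      simp only [MonoidHom.comp_apply, MulEquiv.coe_toMonoidHom, MulAut.conj_apply, sig_apply] <;>
      rw [embN_elN _ (by decide)]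
    · rw [up_eq_upper, emb_upper_eq]; rfl
    · rw [lo_eq_lower, emb_lower_eq]; rfl
  far a b hab h s g := by
    rcases h with ⟨ha, hb⟩ | ⟨ha, hb⟩
    · exact (mem_cen Φ t).1 (R.low a b hab ha hb s) g
    · obtain ⟨rfl, rfl⟩ | ⟨rfl, rfl⟩ : (a = qIx N ∧ b = rIx N) ∨ (a = rIx N ∧ b = qIx N) := by
        simp [Fin.ext_iff] at hab ⊢; omega
      · rw [← emb_upper_eq (qr_ne (N := N))]; exact (mem_cen Φ t).1 (R.qr _) g
      · rw [← emb_lower_eq (qr_ne (N := N))]; exact (mem_cen Φ t).1 (R.qr _) g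

theorem ForkRels.toFork_sigma (R : ForkRels Φ t) : R.toFork.σ = sig Φ t := rfl

theorem ForkRels.toFork_phi (R : ForkRels Φ t) : R.toFork.Φ = Φ := rfl

end Cfsg.Agent.Lib.OmegaPlusPres
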