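import Cfsg.Agent.Lib.OmegaPlusPres.Model

/-!
The relations at the fork and one torus relation give no more than the orthogonal group.
-/

set_option autoImplicit false
set_option linter.unusedSimpArgs false
set_option linter.unusedSectionVars false
set_option linter.unreachableTactic false
set_option linter.unusedTactic false

namespace Cfsg.Agent.Lib.OmegaPlusPres

open Matrix Cfsg.Agent.Lib.SL2 Cfsg.Agent.Lib.LieRecog Cfsg.Agent.Lib.LieRecog.DSys Cfsg.Agent.Lib.BoundedPresentation

theorem flipPair_apply_apply {n : ℕ} {i j : Fin n} (h : i ≠ j) (c : SIdx n) :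
    flipPair i j (flipPair i j c) = c := by
  rcases c with c | c <;> by_cases h1 : c = i <;> by_cases h2 : c = j <;>
    simp_all [flipPair, flipOne, Equiv.swap_apply_def, Ne.symm]

theorem flipPair_inv {n : ℕ} {i j : Fin n} (h : i ≠ j) : (flipPair i j)⁻¹ = flipPair i j :=
  inv_eq_of_mul_eq_one_left (Equiv.ext fun c => flipPair_apply_apply h c)

variable {N : ℕ} {F : Type*} [Field F] {G : Type*} [Group G]
variable {Φ : SpecialLinearGroup (Fin (N + 4)) F →* G} {t : G} (R : ForkRels Φ t)

include R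

theorem sigma_upper (s : F) : R.toFork.pos.V s = sig Φ t (upper s) := by
  show R.toFork.σ (up s) = _
  rw [up_eq_upper]; rfl

theorem sigma_lower (s : F) : R.toFork.neg.V s = sig Φ t (lower s) := by
  show R.toFork.σ (lo s) = _
  rw [lo_eq_lower]; rfl

theorem root_X_mem {a b : SIdx (N + 4)} (h : supp a ≠ supp b) (s : F) :
    R.toFork.X a b s ∈ Φ.range ⊔ (sig Φ t).range := by
  have key : ∀ (O : Orbit N F G), O.Φ = Φ → (∀ s, O.V s ∈ (sig Φ t).range) → ∀ a b s,
      O.W a b s ∈ Φ.range ⊔ (sig Φ t).range := by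
    intro O hO hV a b s
    rw [Orbit.W]
    split_ifs
    · rw [hO]
      exact mul_mem (mul_mem (Subgroup.mem_sup_left ⟨_, rfl⟩) (Subgroup.mem_sup_right (hV s)))
        (inv_mem (Subgroup.mem_sup_left ⟨_, rfl⟩))
    · exact one_mem _
  rcases a with a | a <;> rcases b with b | b
  · exact Subgroup.mem_sup_left ⟨_, rfl⟩
  · exact key R.toFork.pos rfl (fun s => ⟨_, (sigma_upper R s).symm⟩) a b s
  · exact key R.toFork.neg rfl (fun s => ⟨_, (sigma_lower R s).symm⟩) b a s
  · exact Subgroup.mem_sup_left ⟨_, rfl⟩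

theorem gp_eq_top (hgen : Φ.range ⊔ (sig Φ t).range = ⊤) : R.toFork.toDSys.gp (fun _ _ => True) = ⊤ := by
  rw [eq_top_iff, ← hgen, sup_le_iff]
  refine ⟨?_, DSys.range_le (fun s => ?_) (fun s => ?_)⟩
  · rw [MonoidHom.range_eq_map, ← elN_top ((R.toFork.toDSys.gp fun _ _ => True).comap Φ) fun a b h s =>
      R.toFork.toDSys.X_mem_gp (a := Sum.inl a) (b := Sum.inl b) h trivial s]
    exact Subgroup.map_comap_le _ _
  · rw [← sigma_upper R s, show R.toFork.pos.V s = R.toFork.X (Sum.inl (qIx N)) (Sum.inr (rIx N)) s from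
      (R.toFork.pos.W_qr s).symm]
    exact R.toFork.toDSys.X_mem_gp (a := Sum.inl (qIx N)) (b := Sum.inr (rIx N)) qr_ne trivial s
  · rw [← sigma_lower R s, show R.toFork.neg.V s = R.toFork.X (Sum.inr (rIx N)) (Sum.inl (qIx N)) s from
      (R.toFork.neg.W_qr s).symm]
    exact R.toFork.toDSys.X_mem_gp (a := Sum.inr (rIx N)) (b := Sum.inl (qIx N)) qr_ne.symm trivial s

theorem root_qr : R.toFork.toDSys.root (Sum.inl (qIx N)) (Sum.inr (rIx N)) = sig Φ t := by
  refine DSys.hom_ext (fun s => ?_) (fun s => ?_)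
  · rw [DSys.root_upper _ qr_ne]
    exact (R.toFork.pos.W_qr s).trans (sigma_upper R s)
  · rw [DSys.root_lower _ qr_ne]
    exact (R.toFork.neg.W_qr s).trans (sigma_lower R s)

/-- The torus relation keeps the normal form of the Levi part. -/
theorem levi_form {x : G} (hx : x ∈ R.toFork.toDSys.levi) :
    ∃ (g : SpecialLinearGroup (Fin (N + 4)) F) (u : Fˣ), x = Φ g * sig Φ t (SL2.diag u) := by
  set S := R.toFork.toDSys with hS
  have hnorm : ∀ (u : Fˣ) g, sig Φ t (SL2.diag u) * Φ g * (sig Φ t (SL2.diag u))⁻¹ ∈ Φ.range := by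
    intro u g
    have : (⊤ : Subgroup (SpecialLinearGroup (Fin (N + 4)) F)) ≤
        Φ.range.comap ((MulAut.conj (sig Φ t (SL2.diag u))).toMonoidHom.comp Φ) := by
      rw [← elN_top (Φ.range.comap ((MulAut.conj (sig Φ t (SL2.diag u))).toMonoidHom.comp Φ)) fun a b h s => ?_]
      obtain ⟨v, -, hv⟩ := S.conj_diag (a := Sum.inl (qIx N)) (b := Sum.inr (rIx N)) qr_ne u
        (c := Sum.inl a) (d := Sum.inl b) h
      rw [Subgroup.mem_comap]
      refine ⟨elN a b (v * s), ?_⟩
      have := (hv s).1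
      rw [root_qr R] at this
      exact this.symm
    exact this (Subgroup.mem_top g)
  let L : Subgroup G :=
    { carrier := {x | ∃ g u, x = Φ g * sig Φ t (SL2.diag u)}
      one_mem' := ⟨1, 1, by rw [SL2.diag_one, map_one, map_one, one_mul]⟩
      mul_mem' := by
        rintro _ _ ⟨g, u, rfl⟩ ⟨g', u', rfl⟩
        obtain ⟨g'', e⟩ := hnorm u g'
        refine ⟨g * g'', u * u', ?_⟩
        rw [map_mul, e, ← SL2.diag_mul, map_mul]
        simp [mul_assoc]
      inv_mem' := by
        rintro _ ⟨g, u, rfl⟩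
        obtain ⟨g'', e⟩ := hnorm u⁻¹ g⁻¹
        refine ⟨g'', u⁻¹, ?_⟩
        rw [e, _root_.mul_inv_rev, ← map_inv, ← map_inv, SL2.diag_inv]
        simp [mul_assoc] }
  have hΦ : Φ.range ≤ L := by
    rintro _ ⟨g, rfl⟩; exact ⟨g, 1, by rw [SL2.diag_one, map_one, mul_one]⟩
  suffices hle : S.levi ≤ L from hle hx
  refine sup_le ((Subgroup.closure_le _).2 ?_) ((Subgroup.closure_le _).2 ?_)
  · rintro _ ⟨a, b, s, h, hd, rfl⟩
    rcases a with a | a <;> rcases b with b | b <;> simp [IsDiff] at hd <;> exact hΦ ⟨_, rfl⟩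
  · rintro _ ⟨a, b, u, h, rfl⟩
    have right : ∀ a b : Fin (N + 4), a ≠ b → ∀ u : Fˣ, S.root (Sum.inl a) (Sum.inr b) (SL2.diag u) ∈ L := by
      intro a b hne u
      set g := (Orbit.exists_frame (F := F) a b hne).choose
      have e : S.root (Sum.inl a) (Sum.inr b) = (MulAut.conj (Φ g)).toMonoidHom.comp (sig Φ t) := by
        refine DSys.hom_ext (fun s => ?_) (fun s => ?_)
        · rw [DSys.root_upper _ (show supp (Sum.inl a : SIdx (N + 4)) ≠ supp (Sum.inr b : SIdx _) from hne)]
          show R.toFork.pos.W a b s = _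
          rw [Orbit.W, dif_pos hne, sigma_upper R]
          rfl
        · rw [DSys.root_lower _ (show supp (Sum.inl a : SIdx (N + 4)) ≠ supp (Sum.inr b : SIdx _) from hne)]
          show R.toFork.neg.W a b s = _
          rw [Orbit.W, dif_pos hne, sigma_lower R]
          rfl
      rw [e]
      show Φ g * sig Φ t (SL2.diag u) * (Φ g)⁻¹ ∈ L
      exact mul_mem (mul_mem (hΦ ⟨_, rfl⟩) ⟨1, u, by rw [map_one, one_mul]⟩) (inv_mem (hΦ ⟨_, rfl⟩))
    rcases a with a | a <;> rcases b with b | b
    · have : (S.root (Sum.inl a) (Sum.inl b)).range ≤ Φ.range :=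
        DSys.range_le (fun s => by rw [DSys.root_upper _ h]; exact ⟨_, rfl⟩)
          (fun s => by rw [DSys.root_lower _ h]; exact ⟨_, rfl⟩)
      exact hΦ (this ⟨_, rfl⟩)
    · exact right a b h u
    · have e : S.root (Sum.inr a) (Sum.inl b) = (S.root (Sum.inl b) (Sum.inr a)).comp flipJ := by
        refine DSys.hom_ext (fun s => ?_) (fun s => ?_)
        · rw [MonoidHom.comp_apply, DSys.root_upper _ h, show flipJ (upper s : SLtwo F) = lower s by
            apply ext_entries <;> simp [flipJ, upper, lower, ofEntries_coe], DSys.root_lower _ (Ne.symm h)]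
        · rw [MonoidHom.comp_apply, DSys.root_lower _ h, show flipJ (lower s : SLtwo F) = upper s by
            apply ext_entries <;> simp [flipJ, upper, lower, ofEntries_coe], DSys.root_upper _ (Ne.symm h)]
      rw [e, MonoidHom.comp_apply, show flipJ (SL2.diag u : SLtwo F) = SL2.diag u⁻¹ by
        apply ext_entries <;> simp [flipJ, SL2.diag, ofEntries_coe]]
      exact right b a (Ne.symm h) u⁻¹
    · have : (S.root (Sum.inr a) (Sum.inr b)).range ≤ Φ.range :=
        DSys.range_le (fun s => by rw [DSys.root_upper _ h]; exact ⟨_, rfl⟩)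
          (fun s => by rw [DSys.root_lower _ h]; exact ⟨_, rfl⟩)
      exact hΦ (this ⟨_, rfl⟩)

variable {π : G →* GL (SIdx (N + 4)) F} (hΦ : π.comp Φ = phi0) (ht : π t = t0 N F)

include hΦ ht

theorem pi_sig (v : SLtwo F) : π (sig Φ t v) = sig (phi0 (n := N + 4)) (t0 N F) v := by
  have e : ∀ g, π (Φ g) = phi0 g := fun g => by rw [← hΦ]; rfl
  simp [sig_apply, e, ht]

theorem pi_X (a b : SIdx (N + 4)) (h : supp a ≠ supp b) (s : F) :
    (π (R.toFork.toDSys.X a b s) : Matrix (SIdx (N + 4)) (SIdx (N + 4)) F) = eO a b s := by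
  rw [← coe_xO h]
  refine congrArg Units.val ?_
  show π (R.toFork.X a b s) = _
  have e : ∀ g, π (Φ g) = phi0 g := fun g => by rw [← hΦ]; rfl
  rcases a with a | a <;> rcases b with b | b
  · show π (Φ (elN a b s)) = _
    rw [e, phi0_elN (show a ≠ b from h)]
  · have hab : a ≠ b := h
    show π (R.toFork.pos.W a b s) = _
    obtain ⟨p, c, hm, hq, hr, cq, cr⟩ := (Orbit.exists_frame (F := F) a b hab).choose_spec
    rw [Orbit.W, dif_pos hab, map_mul, map_mul, map_inv, sigma_upper R, pi_sig R hΦ ht, sig0_upper]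
    show π (Φ _) * _ * (π (Φ _))⁻¹ = _
    rw [e, mono_conj_right hm qr_ne cq cr, hq, hr]
  · have hab : b ≠ a := Ne.symm h
    show π (R.toFork.neg.W b a s) = _
    obtain ⟨p, c, hm, hq, hr, cq, cr⟩ := (Orbit.exists_frame (F := F) b a hab).choose_spec
    rw [Orbit.W, dif_pos hab, map_mul, map_mul, map_inv, sigma_lower R, pi_sig R hΦ ht, sig0_lower]
    show π (Φ _) * _ * (π (Φ _))⁻¹ = _
    rw [e, mono_conj_left hm qr_ne.symm cr cq, hq, hr]
  · show π (Φ (elN b a (-s))) = _
    rw [e, phi0_elN (show b ≠ a from Ne.symm h)]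
    refine Units.ext ?_
    rw [coe_xO h, coe_xO (show supp (Sum.inl b : SIdx (N + 4)) ≠ supp (Sum.inl a : SIdx _) from Ne.symm h),
      ← eO_flip (Sum.inl b : SIdx (N + 4)) (Sum.inl a) (-s), neg_neg]
    rfl

/-- Faithfulness. -/
theorem injective_of_rels (hgen : Φ.range ⊔ (sig Φ t).range = ⊤)
    (hz : Φ (SLStd.emb qr_ne (SL2.diag (-1))) * sig Φ t (SL2.diag (-1)) = 1) : Function.Injective π := by
  set S := R.toFork.toDSys with hS
  have hπ := pi_X R hΦ ht
  have hgen' := gp_eq_top R hgen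
  rw [← MonoidHom.ker_eq_bot_iff, eq_bot_iff]
  intro x hx
  rw [MonoidHom.mem_ker] at hx
  obtain ⟨l, hl, u, hu, rfl⟩ := S.par_decomp (S.ker_le_par π hπ hgen' hx)
  have hl' : (π l)⁻¹ ∈ diffShape F := inv_mem (S.levi_mem_diff π hπ hl)
  have hul : π u = (π l)⁻¹ := eq_inv_of_mul_eq_one_right (by rw [← map_mul]; exact hx)
  -- the unipotent part
  have hu1 : u = 1 := by
    refine S.side_inj π hπ true hu (Units.ext ?_)
    have low : ∀ z ∈ S.gp (IsSide true), ∀ a b, IsSide false a b →
        (π z : Matrix (SIdx (N + 4)) (SIdx (N + 4)) F) a b = 0 :=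
      fun z hz a b h => ((S.par_mem_upper π hπ (Subgroup.mem_sup_right hz)) a b h).1
    have hunip : ∀ v ∈ S.gp (IsSide true), ∀ a b, IsDiff a b →
        (π v : Matrix (SIdx (N + 4)) (SIdx (N + 4)) F) a b = (1 : Matrix (SIdx (N + 4)) (SIdx (N + 4)) F) a b := by
      intro v hv
      have hX : ∀ c d : SIdx (N + 4), supp c ≠ supp d → IsSide true c d → ∀ (t : F) a b, IsDiff a b →
          eO c d t a b = (1 : Matrix (SIdx (N + 4)) (SIdx (N + 4)) F) a b := by
        intro c d hcd hs t a b hab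
        have key : ∀ c d, IsSide true c d → ¬ (c = a ∧ d = b) := fun c d hs e => by
          rw [IsDiff, ← e.1, ← e.2, hs.1, hs.2] at hab; simp at hab
        simp [eO, key c d hs, key _ _ (isSide_flip _ _ _ hs)]
      induction hv using Subgroup.closure_induction'' with
      | mem x hx =>
        obtain ⟨c, d, t, hcd, hs, rfl⟩ := hx
        intro a b hab
        rw [hπ c d hcd]
        exact hX c d hcd hs t a b hab
      | inv_mem x hx =>
        obtain ⟨c, d, t, hcd, hs, rfl⟩ := hx
        intro a b hab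
        rw [map_inv, S.pi_X_inv π hπ hcd]
        exact hX c d hcd hs _ a b hab
      | one => intro a b _; simp
      | mul x y hx hy ihx ihy =>
        intro a b hab
        rw [map_mul, Units.val_mul, Matrix.mul_apply, Finset.sum_eq_single a]
        · rw [ihx a a rfl, Matrix.one_apply_eq, one_mul, ihy a b hab]
        · intro k _ hk
          by_cases hak : IsDiff a k
          · rw [ihx a k hak, Matrix.one_apply_ne (Ne.symm hk), zero_mul]
          · rcases ha : a.isLeft
            · have hk' : k.isLeft = true := by simpa [IsDiff, ha] using hak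
              rw [low x hx a k ⟨ha, hk'⟩, zero_mul]
            · have hk' : k.isLeft = false := by simpa [IsDiff, ha] using hak
              have hb : b.isLeft = true := by rw [← ha]; exact hab.symm
              rw [low y hy k b ⟨hk', hb⟩, mul_zero]
        · simp
    ext a b
    rw [Units.val_one]
    by_cases h : IsDiff a b
    · exact hunip u hu a b h
    · rw [hul, (hl' a b h).1, Matrix.one_apply_ne fun e => h (congrArg Sum.isLeft e)]
  subst hu1
  rw [mul_one] at hx ⊢
  rw [Subgroup.mem_bot]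
  obtain ⟨g, v, rfl⟩ := levi_form R hl
  -- the Levi part
  have e : ∀ g, π (Φ g) = phi0 g := fun g => by rw [← hΦ]; rfl
  rw [map_mul, e, pi_sig R hΦ ht, sig_apply, mul_eq_one_iff_eq_inv] at hx
  have hD : (t0 N F * phi0 (SLStd.emb qr_ne (SL2.diag v)) * (t0 N F)⁻¹ : GL (SIdx (N + 4)) F) = (phi0 g)⁻¹ := by
    rw [hx, inv_inv]
  rw [← map_inv phi0 g] at hD
  set d : SIdx (N + 4) → F := fun a =>
    (Sum.elim (SLStd.dv (qIx N) (rIx N) v) (SLStd.dv (qIx N) (rIx N) v⁻¹)) (flipPair 0 (rIx N) a)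
  have hM : ((g⁻¹ : SpecialLinearGroup (Fin (N + 4)) F) : Matrix (Fin (N + 4)) (Fin (N + 4)) F) =
      Matrix.diagonal fun i => d (Sum.inl i) := by
    have h1 := congrArg (fun z : GL (SIdx (N + 4)) F => (z : Matrix (SIdx (N + 4)) (SIdx (N + 4)) F)) hD
    have hinv : (SLStd.emb (qr_ne (N := N)) (SL2.diag v) : SpecialLinearGroup (Fin (N + 4)) F)⁻¹ =
        SLStd.emb qr_ne (SL2.diag v⁻¹) := by rw [← map_inv, SL2.diag_inv]
    have hP : (phi0 (SLStd.emb (qr_ne (N := N)) (SL2.diag v)) : Matrix (SIdx (N + 4)) (SIdx (N + 4)) F) =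
        Matrix.diagonal (Sum.elim (SLStd.dv (qIx N) (rIx N) v) (SLStd.dv (qIx N) (rIx N) v⁻¹)) := by
      rw [coe_phi0, hinv, SLStd.emb_diag, SLStd.emb_diag, Matrix.diagonal_transpose, Matrix.fromBlocks_diagonal]
    have h2 : ∀ w : SIdx (N + 4) → F, ((phi0 g⁻¹ : GL (SIdx (N + 4)) F) : Matrix (SIdx (N + 4)) (SIdx (N + 4)) F) *ᵥ w =
        fun a => d a * w a := by
      intro w
      rw [← show ((t0 N F * phi0 (SLStd.emb qr_ne (SL2.diag v)) * (t0 N F)⁻¹ : GL (SIdx (N + 4)) F) :
          Matrix (SIdx (N + 4)) (SIdx (N + 4)) F) = _ from h1, Units.val_mul, Units.val_mul, ← Matrix.mulVec_mulVec,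
        ← Matrix.mulVec_mulVec, hP, show (t0 N F)⁻¹ = t0 N F from inv_eq_of_mul_eq_one_left t0_mul_self, t0,
        pm_mulVec, pm_mulVec]
      funext a
      simp only [flipPair_inv (r_ne_zero (N := N)), Function.comp_apply, Matrix.mulVec_diagonal,
        flipPair_apply_apply (r_ne_zero (N := N))]
      rfl
    ext i j
    have := congrFun (h2 (Pi.single (Sum.inl j) 1)) (Sum.inl i)
    rw [coe_phi0, Matrix.mulVec_single_one] at this
    simpa [Matrix.diagonal_apply, Pi.single_apply] using this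
  have hdet := (g⁻¹).2
  rw [hM, Matrix.det_diagonal] at hdet
  have hval : ∀ i : Fin (N + 4), d (Sum.inl i) =
      if i = qIx N then (v : F) else if i = rIx N then (v : F) else 1 := by
    intro i
    by_cases h1 : i = rIx N
    · subst h1
      simp [d, (flipPair_right r_ne_zero).1, SLStd.dv, qr_ne, qr_ne.symm]
    by_cases h2 : i = 0
    · subst h2
      have : flipPair (0 : Fin (N + 4)) (rIx N) (Sum.inl 0) = Sum.inr 0 := by
        simp [flipPair, flipOne, Equiv.swap_apply_def, r_ne_zero]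
      simp [d, this, SLStd.dv, h1, show (0 : Fin (N + 4)) ≠ qIx N by simp [Fin.ext_iff]]
    simp [d, (flipPair_fix h2 h1).1, SLStd.dv, h1]
  rw [Finset.prod_congr rfl (fun i _ => hval i), Finset.prod_eq_mul (qIx N) (rIx N) qr_ne
    (fun c _ hc => by simp [hc.1, hc.2]) (by simp) (by simp), if_pos rfl, if_neg qr_ne.symm, if_pos rfl] at hdet
  have hg : g⁻¹ = SLStd.emb qr_ne (SL2.diag v) := by
    refine Subtype.ext ?_
    rw [hM, SLStd.emb_diag]
    congr 1
    funext i
    rw [hval, SLStd.dv]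
    by_cases h1 : i = qIx N
    · simp [h1]
    · by_cases h2 : i = rIx N
      · subst h2
        simp only [if_neg qr_ne.symm, if_pos rfl, Units.val_inv_eq_inv_val]
        exact eq_inv_of_mul_eq_one_left hdet
      · simp [h1, h2]
  have hg' : g = SLStd.emb qr_ne (SL2.diag v) := by
    have hv : v = 1 ∨ v = -1 := by
      rcases mul_self_eq_one_iff.1 hdet with h | h
      · exact Or.inl (Units.ext h)
      · exact Or.inr (Units.ext (by simpa using h))
    rw [← inv_inv g, hg, ← map_inv, SL2.diag_inv]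
    rcases hv with rfl | rfl <;> simp
  rcases mul_self_eq_one_iff.1 hdet with h | h
  · rw [hg', show v = 1 from Units.ext h, SL2.diag_one, map_one, map_one, map_one, one_mul]
  · rw [hg', show v = -1 from Units.ext (by simpa using h)]
    exact hz

end Cfsg.Agent.Lib.OmegaPlusPres
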