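import Cfsg.Agent.Lib.OmegaPlusPres.Cases
import Cfsg.Agent.Lib.BoundedPresentation.SpPres

/-!
A presentation of the orthogonal group of plus type from one of the special linear group.
-/

set_option autoImplicit false
set_option linter.unusedSimpArgs false
set_option linter.unusedSectionVars false
set_option linter.style.haveILetI false

namespace Cfsg.Agent.Lib.OmegaPlusPres

open Matrix Cfsg.Agent.Lib.SL2 Cfsg.Agent.Lib.LieRecog Cfsg.Agent.Lib.LieRecog.DSys Cfsg.Agent.Lib.BoundedPresentation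

universe u

variable {N : ℕ} {F : Type u} [Field F]

/-- The Levi part inside the group of root elements. -/
noncomputable def phiE : SpecialLinearGroup (Fin (N + 4)) F →* elO (N + 4) F :=
  (phi0 (n := N + 4)).codRestrict (elO (N + 4) F) phi0_mem

/-- The sign change inside the group of root elements. -/
noncomputable def tE : FreeGroup Unit →* elO (N + 4) F := FreeGroup.lift fun _ => ⟨t0 N F, t0_mem⟩

theorem tE_gen : ((tE (N := N) (F := F) (FreeGroup.of ())) : GL (SIdx (N + 4)) F) = t0 N F := by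
  simp [tE]

theorem elO_le_sup : elO (N + 4) F ≤ (phi0 (n := N + 4)).range ⊔ (sig (phi0 (n := N + 4)) (t0 N F)).range := by
  refine (Subgroup.closure_le _).2 ?_
  rintro _ ⟨a, b, s, h, rfl⟩
  have := pi_X (forkRels0 (N := N) (F := F)) (π := MonoidHom.id _) rfl rfl a b h s
  rw [← coe_xO h] at this
  rw [← show forkRels0.toFork.X a b s = xO a b s from Units.ext this]
  exact root_X_mem forkRels0 h s

theorem sub_eval {G : Type*} [Group G] (A : SpecialLinearGroup (Fin (N + 4)) F →* G) (B : FreeGroup Unit →* G) :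
    Subgroup.closure (Set.range (wL (N := N) (F := F)) ∪ Set.range (wS (N := N) (F := F))) ≤
      (A.range ⊔ (sig A (B (FreeGroup.of ()))).range).comap (glueEval A B) := by
  rw [Subgroup.closure_le]
  rintro _ (⟨g, rfl⟩ | ⟨v, rfl⟩)
  · rw [SetLike.mem_coe, Subgroup.mem_comap, eval_wL]; exact Subgroup.mem_sup_left ⟨g, rfl⟩
  · rw [SetLike.mem_coe, Subgroup.mem_comap, eval_wS]; exact Subgroup.mem_sup_right ⟨v, rfl⟩

/-- The sign change as a word in the root elements. -/
theorem exists_word_t : ∃ W ∈ Subgroup.closure (Set.range (wL (N := N) (F := F)) ∪ Set.range (wS (N := N) (F := F))),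
    glueEval (phi0 (n := N + 4)) (fun x => ((tE (N := N) (F := F) x : GL (SIdx (N + 4)) F))) W = t0 N F := by
  let B : FreeGroup Unit →* GL (SIdx (N + 4)) F := (elO (N + 4) F).subtype.comp tE
  have hB : B (FreeGroup.of ()) = t0 N F := tE_gen
  have hle : (phi0 (n := N + 4)).range ⊔ (sig (phi0 (n := N + 4)) (t0 N F)).range ≤
      (Subgroup.closure (Set.range (wL (N := N) (F := F)) ∪ Set.range (wS (N := N) (F := F)))).map
        (glueEval (phi0 (n := N + 4)) B) := by
    rw [sup_le_iff]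
    constructor
    · rintro _ ⟨g, rfl⟩
      exact ⟨wL g, Subgroup.subset_closure (Or.inl ⟨g, rfl⟩), eval_wL _ _ g⟩
    · rintro _ ⟨v, rfl⟩
      exact ⟨wS v, Subgroup.subset_closure (Or.inr ⟨v, rfl⟩), by rw [eval_wS, hB]⟩
  exact hle (elO_le_sup t0_mem)

theorem closure_range_unit : Subgroup.closure (Set.range fun _ : Unit => (FreeGroup.of () : FreeGroup Unit)) = ⊤ :=
  FreeGroup.closure_range_of Unit

theorem pres_unit : Pres (fun _ : Unit => (FreeGroup.of () : FreeGroup Unit)) 0 :=
  ⟨∅, le_rfl, fun x hx => absurd hx (Finset.notMem_empty x), fun _ _ y _ => ⟨FreeGroup.lift y, fun i => by simp⟩⟩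

/-- One more element and the relators of a solution. -/
theorem pres_elO [Finite F] {ι : Type} {N₁ : ι → SpecialLinearGroup (Fin (N + 4)) F} {r : ℕ}
    (hP : Pres N₁ r) (hc : Subgroup.closure (Set.range N₁) = ⊤) {gl : List (Words N F)} (hgl : Solves gl) :
    ∃ M : ι ⊕ Unit → elO (N + 4) F, Pres M (r + (gl.length + 1)) ∧ Subgroup.closure (Set.range M) = ⊤ := by
  obtain ⟨W, hW, hWt⟩ := exists_word_t (N := N) (F := F)
  set z₀ : Words N F := wT * W⁻¹ with hz₀
  have hsub : ∀ z, ((glueEval (phiE (N := N) (F := F)) (tE (N := N) (F := F)) z : elO (N + 4) F) : GL (SIdx (N + 4)) F) =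
      glueEval (phi0 (n := N + 4)) (fun x => ((tE (N := N) (F := F) x : GL (SIdx (N + 4)) F))) z :=
    fun z => map_glueEval (elO (N + 4) F).subtype _ _ z
  have hval : ∀ z ∈ gl ++ [z₀], glueEval (phiE (N := N) (F := F)) (tE (N := N) (F := F)) z = 1 := by
    intro z hz
    refine Subtype.ext ?_
    rw [hsub, Subgroup.coe_one]
    rcases List.mem_append.1 hz with hz | hz
    · exact hgl.1 ((elO (N + 4) F).subtype.comp tE) tE_gen z hz
    · obtain rfl := List.mem_singleton.1 hz
      have h1 : glueEval (phi0 (n := N + 4)) (fun x => ((tE (N := N) (F := F) x : GL (SIdx (N + 4)) F))) (wT (N := N) (F := F)) = t0 N F := by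
        rw [wT, glueEval_inr]; exact tE_gen
      rw [hz₀, map_mul, map_inv, hWt, h1, mul_inv_cancel]
  have recon : ∀ (G : Type) [Group G] (ψ₁ : SpecialLinearGroup (Fin (N + 4)) F →* G) (ψ₂ : FreeGroup Unit →* G),
      (∀ z ∈ gl ++ [z₀], glueEval ψ₁ ψ₂ z = 1) → ∃ Ψ : elO (N + 4) F →* G,
        (∀ g, Ψ (phiE g) = ψ₁ g) ∧ ∀ x, Ψ (tE x) = ψ₂ x := by
    intro G _ ψ₁ ψ₂ h
    set θ₁ : SpecialLinearGroup (Fin (N + 4)) F →* elO (N + 4) F × G := phiE.prod ψ₁
    set θ₂ : FreeGroup Unit →* elO (N + 4) F × G := tE.prod ψ₂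
    set Γ : Subgroup (elO (N + 4) F × G) := θ₁.range ⊔ θ₂.range with hΓ
    let χ₁ : SpecialLinearGroup (Fin (N + 4)) F →* Γ := θ₁.codRestrict Γ fun g => Subgroup.mem_sup_left ⟨g, rfl⟩
    let χ₂ : FreeGroup Unit →* Γ := θ₂.codRestrict Γ fun g => Subgroup.mem_sup_right ⟨g, rfl⟩
    have hχ : ∀ z ∈ gl ++ [z₀], glueEval χ₁ χ₂ z = 1 := by
      intro z hz
      refine Subtype.ext (Prod.ext ?_ ?_)
      · exact (map_glueEval ((MonoidHom.fst _ G).comp Γ.subtype) χ₁ χ₂ z).trans (hval z hz)
      · exact (map_glueEval ((MonoidHom.snd (elO (N + 4) F) G).comp Γ.subtype) χ₁ χ₂ z).trans (h z hz)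
    obtain ⟨R, hz⟩ := hgl.2 Γ χ₁ χ₂ fun z hz => hχ z (List.mem_append_left _ hz)
    have hword := hχ z₀ (List.mem_append_right _ (List.mem_singleton_self _))
    rw [hz₀, map_mul, map_inv, mul_inv_eq_one, eval_wT] at hword
    have hgen : χ₁.range ⊔ (sig χ₁ (χ₂ (FreeGroup.of ()))).range = ⊤ := by
      have h2 : χ₂.range ≤ χ₁.range ⊔ (sig χ₁ (χ₂ (FreeGroup.of ()))).range := by
        rw [MonoidHom.range_eq_map, ← closure_range_unit, MonoidHom.map_closure, Subgroup.closure_le]
        rintro _ ⟨_, ⟨_, rfl⟩, rfl⟩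
        have hmem := sub_eval χ₁ χ₂ hW
        rw [Subgroup.mem_comap, ← hword] at hmem
        exact hmem
      have htop : χ₁.range ⊔ χ₂.range = ⊤ := by
        apply Subgroup.map_injective Γ.subtype_injective
        rw [Subgroup.map_sup, MonoidHom.map_range, MonoidHom.map_range, ← MonoidHom.range_eq_map,
          Subgroup.range_subtype]
        rfl
      rw [eq_top_iff, ← htop, sup_le_iff]
      exact ⟨le_sup_left, h2⟩
    let π : Γ →* elO (N + 4) F := (MonoidHom.fst _ G).comp Γ.subtype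
    have hinj' : Function.Injective ((elO (N + 4) F).subtype.comp π) :=
      injective_of_rels R (π := (elO (N + 4) F).subtype.comp π) (MonoidHom.ext fun g => rfl) tE_gen hgen hz
    have hinj : Function.Injective π := fun x y e => hinj' (congrArg Subtype.val e)
    have hsurj : Function.Surjective π := by
      intro y
      have hle : elO (N + 4) F ≤ ((elO (N + 4) F).subtype.comp π).range := by
        refine elO_le_sup.trans (sup_le ?_ ?_)
        · rintro _ ⟨g, rfl⟩; exact ⟨χ₁ g, rfl⟩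
        · rintro _ ⟨v, rfl⟩
          refine ⟨sig χ₁ (χ₂ (FreeGroup.of ())) v, ?_⟩
          exact pi_sig R (π := (elO (N + 4) F).subtype.comp π) (MonoidHom.ext fun g => rfl) tE_gen v
      obtain ⟨x, hx⟩ := hle y.2
      exact ⟨x, Subtype.ext hx⟩
    let e := MulEquiv.ofBijective π ⟨hinj, hsurj⟩
    refine ⟨((MonoidHom.snd (elO (N + 4) F) G).comp Γ.subtype).comp e.symm.toMonoidHom, fun g => ?_, fun x => ?_⟩
    · have : e.symm (phiE g) = χ₁ g := e.symm_apply_eq.2 rfl
      simp only [MonoidHom.comp_apply, MulEquiv.coe_toMonoidHom, this]; rfl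
    · have : e.symm (tE x) = χ₂ x := e.symm_apply_eq.2 rfl
      simp only [MonoidHom.comp_apply, MulEquiv.coe_toMonoidHom, this]; rfl
  have hgenE : (phiE (N := N) (F := F)).range ⊔ (tE (N := N) (F := F)).range = ⊤ := by
    apply Subgroup.map_injective (elO (N + 4) F).subtype_injective
    rw [Subgroup.map_sup, MonoidHom.map_range, MonoidHom.map_range, ← MonoidHom.range_eq_map, Subgroup.range_subtype]
    refine le_antisymm (sup_le ?_ ?_) (elO_le_sup.trans (sup_le ?_ ?_))
    · rintro _ ⟨g, rfl⟩; exact (phiE g).2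
    · rintro _ ⟨g, rfl⟩; exact (tE g).2
    · rintro _ ⟨g, rfl⟩; exact Subgroup.mem_sup_left ⟨g, rfl⟩
    · rintro _ ⟨v, rfl⟩
      rw [sig_apply]
      exact mul_mem (mul_mem (Subgroup.mem_sup_right ⟨FreeGroup.of (), tE_gen⟩) (Subgroup.mem_sup_left ⟨_, rfl⟩))
        (inv_mem (Subgroup.mem_sup_right ⟨FreeGroup.of (), tE_gen⟩))
  refine ⟨_, (combine hP hc pres_unit closure_range_unit phiE tE (gl ++ [z₀]) hval recon).mono (by simp),
    range_sum_elim hc closure_range_unit phiE tE hgenE⟩

section Choose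

variable [Fintype F]

theorem exists_solves (N : ℕ) : ∃ gl : List (Words N F), Solves gl ∧ gl.length ≤ (if N = 0 then 6 else 5) := by
  obtain ⟨ω, hgen, hspan, -, -⟩ := exists_sl_two_pres F
  obtain ⟨m₁, m₂, hm⟩ := SpGlue.exists_two_gens F (Fin (N + 2)) (by simp)
  rcases Nat.eq_zero_or_pos N with hN | hN
  · simp only [if_pos hN]
    rcases (show 4 ≤ Fintype.card F ∨ Fintype.card F = 3 ∨ Fintype.card F = 2 by
      have := Fintype.one_lt_card (α := F); omega) with hq | hq | hq
    · by_cases h2 : (2 : F) = 0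
      · exact ⟨_, solves_four_even hm hN hq h2 hgen hspan, by simp⟩
      · exact ⟨_, solves_four_odd hm hN hq h2 hgen hspan, by simp⟩
    · exact ⟨_, solves_three_four hm hN hq hgen, by simp⟩
    · exact ⟨_, solves_two_four hm hN hq hgen, by simp⟩
  · simp only [if_neg hN.ne']
    rcases (show 4 ≤ Fintype.card F ∨ Fintype.card F = 3 ∨ Fintype.card F = 2 by
      have := Fintype.one_lt_card (α := F); omega) with hq | hq | hq
    · exact ⟨_, solves_big hm hN hq hgen hspan, by simp⟩
    · exact ⟨_, solves_three_big hm hN hq hgen, by simp⟩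
    · exact ⟨_, solves_two_big hm hN hq hgen, by simp⟩

end Choose

section Omega

theorem elO_eq_omega : (elO (N + 4) F).subgroupOf (Cfsg.isometryGroup F (Cfsg.quadFormPlus (N + 4) F)) =
    Cfsg.Omega F (Cfsg.quadFormPlus (N + 4) F) :=
  le_antisymm (elO_le_Omega (by omega)) (Omega_le_elO (N + 1))

/-- The group of root elements is `Ω`. -/
noncomputable def omegaIso : elO (N + 4) F ≃* Cfsg.Omega F (Cfsg.quadFormPlus (N + 4) F) :=
  (Subgroup.subgroupOfEquivOfLe elO_le).symm.trans (MulEquiv.subgroupCongr elO_eq_omega)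

variable [Fintype F]

theorem center_elO_scalar {z : elO (N + 4) F} (hz : z ∈ Subgroup.center (elO (N + 4) F)) :
    ((z : GL (SIdx (N + 4)) F) : Matrix (SIdx (N + 4)) (SIdx (N + 4)) F) =
      (((z : GL (SIdx (N + 4)) F) : Matrix (SIdx (N + 4)) (SIdx (N + 4)) F) (Sum.inl 0) (Sum.inl 0)) • 1 := by
  set Z := ((z : GL (SIdx (N + 4)) F) : Matrix (SIdx (N + 4)) (SIdx (N + 4)) F) with hZ
  have hc : ∀ a b, supp a ≠ supp b → Z * (Matrix.single a b (1 : F) - Matrix.single (bar b) (bar a) 1) =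
      (Matrix.single a b 1 - Matrix.single (bar b) (bar a) 1) * Z := by
    intro a b h
    have := congrArg (fun x : elO (N + 4) F => ((x : GL (SIdx (N + 4)) F) : Matrix (SIdx (N + 4)) (SIdx (N + 4)) F))
      (Subgroup.mem_center_iff.1 hz ⟨xO a b 1, xO_mem_elO h 1⟩)
    simp only [Subgroup.coe_mul, Units.val_mul, coe_xO h, eO, ← hZ] at this
    rw [Matrix.mul_sub, Matrix.sub_mul]
    rw [Matrix.mul_sub, Matrix.sub_mul, Matrix.mul_add, Matrix.add_mul, Matrix.one_mul, Matrix.mul_one] at this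
    have e : ∀ P Q R S : Matrix (SIdx (N + 4)) (SIdx (N + 4)) F, Z + P - Q = Z + R - S → P - Q = R - S := by
      intro P Q R S h'
      rw [add_sub_assoc, add_sub_assoc] at h'
      exact add_left_cancel h'
    exact (e _ _ _ _ this).symm
  have key : ∀ (a b k : SIdx (N + 4)), supp a ≠ supp b → supp k ≠ supp b →
      Z k a = if k = a then Z b b else 0 := by
    intro a b k h hk
    have := congrFun (congrFun (hc a b h) k) b
    obtain ⟨h1, h2⟩ := valid_ne h
    obtain ⟨h3, h4⟩ := valid_ne hk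
    have h5 : bar a ≠ b := fun e => h (by rw [← e, supp_swap])
    simp only [Matrix.mul_sub, Matrix.sub_mul, Matrix.sub_apply] at this
    rw [Matrix.mul_single_apply_same, mul_one, Matrix.mul_single_apply_of_ne _ _ _ _ _ (Ne.symm h5), sub_zero,
      Matrix.single_mul_apply_of_ne _ _ _ _ _ h4, sub_zero] at this
    split_ifs with hka
    · subst hka; rwa [Matrix.single_mul_apply_same, one_mul] at this
    · rwa [Matrix.single_mul_apply_of_ne _ _ _ _ _ hka] at this
  have third : ∀ a b : SIdx (N + 4), ∃ c : SIdx (N + 4), supp c ≠ supp a ∧ supp c ≠ supp b :=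
    fun a b => (forkRels0 (N := N) (F := F)).toFork.toDSys.exists_third a b
  ext k a
  obtain ⟨b, hba, hbk⟩ := third a k
  rw [key a b k hba.symm hbk.symm, Matrix.smul_apply, Matrix.one_apply, smul_eq_mul, mul_ite, mul_one, mul_zero]
  split_ifs
  · obtain ⟨c, hcb, hc0⟩ := third b (Sum.inl 0)
    have e1 := key c b c hcb hcb
    have e2 := key c (Sum.inl 0) c hc0 hc0
    rw [if_pos rfl] at e1 e2
    rw [← e1, e2]
  · rfl

theorem isCyclic_center : IsCyclic (Subgroup.center (elO (N + 4) F)) := by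
  let f : Subgroup.center (elO (N + 4) F) →* F :=
    { toFun := fun z => (((z : elO (N + 4) F) : GL (SIdx (N + 4)) F) : Matrix (SIdx (N + 4)) (SIdx (N + 4)) F) (Sum.inl 0) (Sum.inl 0)
      map_one' := by simp
      map_mul' := fun z w => by
        show (((z * w : Subgroup.center (elO (N + 4) F)) : elO (N + 4) F) : GL (SIdx (N + 4)) F).1 (Sum.inl 0) (Sum.inl 0) = _
        rw [Subgroup.coe_mul, Subgroup.coe_mul, Units.val_mul, center_elO_scalar w.2, Matrix.mul_smul, Matrix.mul_one,
          Matrix.smul_apply, smul_eq_mul, Matrix.smul_apply, Matrix.one_apply_eq, smul_eq_mul, mul_one, mul_comm] }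
  refine isCyclic_of_subgroup_isDomain f fun z w e => Subtype.ext (Subtype.ext (Units.ext ?_))
  rw [center_elO_scalar z.2, center_elO_scalar w.2]
  exact congrArg (· • (1 : Matrix (SIdx (N + 4)) (SIdx (N + 4)) F)) e

theorem rels_of_iso {H G : Type u} [Group H] [Group G] (e : H ≃* G) (hC : IsCyclic (Subgroup.center H))
    {m r b : ℕ} {N' : Fin m → H} (h : Pres N' r) (hc : Subgroup.closure (Set.range N') = ⊤) (hb : r ≤ b) :
    (∃ rels : Finset (FreeGroup (Fin m)), rels.card ≤ b ∧
      Nonempty (PresentedGroup (↑rels : Set (FreeGroup (Fin m))) ≃* G)) ∧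
    (∃ rels : Finset (FreeGroup (Fin m)), rels.card ≤ b + 1 ∧
      Nonempty (PresentedGroup (↑rels : Set (FreeGroup (Fin m))) ≃* G ⧸ Subgroup.center G)) := by
  have hI := h.map_equiv e
  have hIc : Subgroup.closure (Set.range fun i => e (N' i)) = ⊤ :=
    closure_map_range (f := e.toMonoidHom) hc e.surjective
  haveI : IsCyclic (Subgroup.center G) := (Subgroup.centerCongr e).isCyclic.1 hC
  obtain ⟨N'', hN'', hN''c⟩ := SpGlue.pres_center_quotient hI hIc
  exact ⟨(hI.mono hb).exists_rels hIc, (hN''.mono (Nat.succ_le_succ hb)).exists_rels hN''c⟩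

/-- The two presentations. -/
theorem pres_omega {k r : ℕ} {N₁ : Fin k → SpecialLinearGroup (Fin (N + 4)) F} (hP : Pres N₁ r)
    (hc : Subgroup.closure (Set.range N₁) = ⊤) (d m b : ℕ) (hm : k + 1 + d = m)
    (hb : r + (if N = 0 then 6 else 5) + 1 + d ≤ b) :
    (∃ rels : Finset (FreeGroup (Fin m)), rels.card ≤ b ∧
      Nonempty (PresentedGroup (↑rels : Set (FreeGroup (Fin m))) ≃* Cfsg.Omega F (Cfsg.quadFormPlus (N + 4) F))) ∧
    (∃ rels : Finset (FreeGroup (Fin m)), rels.card ≤ b + 1 ∧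
      Nonempty (PresentedGroup (↑rels : Set (FreeGroup (Fin m))) ≃* Cfsg.POmega F (Cfsg.quadFormPlus (N + 4) F))) := by
  obtain ⟨gl, hgl, hlen⟩ := exists_solves (F := F) N
  obtain ⟨M, hM, hMc⟩ := pres_elO hP hc hgl
  obtain ⟨N', hN', hN'c⟩ := Pres.exists_fin d hM hMc m
    (by rw [Fintype.card_sum, Fintype.card_fin, Fintype.card_unit]; exact hm)
  exact rels_of_iso omegaIso isCyclic_center hN' hN'c (by omega)

end Omega

end Cfsg.Agent.Lib.OmegaPlusPres
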