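import Cfsg.Agent.Lib.OmegaPlusPres.Glue
import Cfsg.Agent.Lib.LieRecog.SignedOmega

/-!
The special linear group and the sign change inside the orthogonal group of plus type.
-/

set_option autoImplicit false
set_option linter.unusedSimpArgs false
set_option linter.unusedSectionVars false
set_option linter.unreachableTactic false
set_option linter.unusedTactic false
set_option linter.unnecessarySeqFocus false

namespace Cfsg.Agent.Lib.OmegaPlusPres

open Matrix Cfsg.Agent.Lib.SL2 Cfsg.Agent.Lib.LieRecog Cfsg.Agent.Lib.LieRecog.DSys Cfsg.Agent.Lib.BoundedPresentation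
open scoped commutatorElement

variable {n : ℕ} {F : Type*} [Field F]

/-- `g` on the first half and its inverse transpose on the second. -/
def levMat : SpecialLinearGroup (Fin n) F →* Matrix (SIdx n) (SIdx n) F where
  toFun g := Matrix.fromBlocks g.1 0 0 (g⁻¹).1ᵀ
  map_one' := by simp
  map_mul' g h := by
    rw [fromBlocks_multiply, _root_.mul_inv_rev, Matrix.SpecialLinearGroup.coe_mul, Matrix.SpecialLinearGroup.coe_mul,
      transpose_mul]
    simp

/-- The Levi subgroup. -/
noncomputable def phi0 : SpecialLinearGroup (Fin n) F →* GL (SIdx n) F := (levMat (n := n) (F := F)).toHomUnits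

theorem coe_phi0 (g : SpecialLinearGroup (Fin n) F) :
    (phi0 g : Matrix (SIdx n) (SIdx n) F) = Matrix.fromBlocks g.1 0 0 (g⁻¹).1ᵀ := rfl

theorem phi0_elN {a b : Fin n} (h : a ≠ b) (t : F) : phi0 (elN a b t) = xO (Sum.inl a) (Sum.inl b) t := by
  refine Units.ext ?_
  rw [coe_phi0, coe_xO (show supp (Sum.inl a : SIdx n) ≠ supp (Sum.inl b : SIdx n) from h),
    show (elN a b t : SpecialLinearGroup (Fin n) F)⁻¹ = elN a b (-t) by
      rw [elN, elN, dif_neg h, dif_neg h, SpecialLinearGroup.transvection_inv], coe_elN h, coe_elN h]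
  ext (i | i) (j | j) <;>
    simp [eO, bar, Matrix.single_apply, Matrix.one_apply] <;> split_ifs <;> simp_all

theorem eO_right {a b : Fin n} (t : F) :
    eO (Sum.inl a : SIdx n) (Sum.inr b) t = Matrix.fromBlocks 1 (Matrix.single a b t - Matrix.single b a t) 0 1 := by
  ext (i | i) (j | j) <;>
    simp [eO, bar, Matrix.single_apply, Matrix.one_apply] <;> split_ifs <;> simp_all

theorem eO_left {a b : Fin n} (t : F) :
    eO (Sum.inr a : SIdx n) (Sum.inl b) t = Matrix.fromBlocks 1 0 (Matrix.single a b t - Matrix.single b a t) 1 := by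
  ext (i | i) (j | j) <;>
    simp [eO, bar, Matrix.single_apply, Matrix.one_apply] <;> split_ifs <;> simp_all

section Mono

variable {g : SpecialLinearGroup (Fin n) F} {π : Fin n → Fin n} {c : Fin n → F}

theorem mono_single (hm : IsMono g π c) (q r : Fin n) (t : F) :
    g.1 * Matrix.single q r t * g.1ᵀ = Matrix.single (π q) (π r) (c q * t * c r) := by
  ext i j
  rw [Matrix.mul_apply, Finset.sum_eq_single r]
  · rw [Matrix.mul_single_apply_same, Matrix.transpose_apply, hm i q, hm j r, Matrix.single_apply]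
    split_ifs <;> simp_all
  · intro b _ hb
    rw [Matrix.mul_single_apply_of_ne _ _ _ _ _ hb, zero_mul]
  · simp

theorem inv_transpose_mul (g : SpecialLinearGroup (Fin n) F) : g.1ᵀ * (g⁻¹).1ᵀ = 1 := by
  rw [← transpose_mul, ← Matrix.SpecialLinearGroup.coe_mul, inv_mul_cancel, Matrix.SpecialLinearGroup.coe_one,
    transpose_one]

theorem mono_conj_right (hm : IsMono g π c) {q r : Fin n} (h : q ≠ r) (hq : c q = 1) (hr : c r = 1) (t : F) :
    phi0 g * xO (Sum.inl q) (Sum.inr r) t * (phi0 g)⁻¹ = xO (Sum.inl (π q)) (Sum.inr (π r)) t := by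
  have h' : π q ≠ π r := hm.bijective.1.ne h
  rw [mul_inv_eq_iff_eq_mul]
  refine Units.ext ?_
  rw [Units.val_mul, Units.val_mul, coe_phi0, coe_xO (show supp (Sum.inl q : SIdx n) ≠ supp (Sum.inr r : SIdx n) from h),
    coe_xO (show supp (Sum.inl (π q) : SIdx n) ≠ supp (Sum.inr (π r) : SIdx n) from h'), eO_right, eO_right,
    fromBlocks_multiply, fromBlocks_multiply]
  congr 1 <;> try simp
  have e := congrArg (· * (g⁻¹).1ᵀ) (congrArg₂ (· - ·) (mono_single hm q r t) (mono_single hm r q t))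
  simp only [hq, hr, one_mul, mul_one] at e
  simp only [← Matrix.sub_mul, ← Matrix.mul_sub, Matrix.mul_assoc, inv_transpose_mul, Matrix.mul_one] at e
  simpa [Matrix.mul_assoc] using e

theorem mono_conj_left (hm : IsMono g π c) {q r : Fin n} (h : q ≠ r) (hq : c q = 1) (hr : c r = 1) (t : F) :
    phi0 g * xO (Sum.inr q) (Sum.inl r) t * (phi0 g)⁻¹ = xO (Sum.inr (π q)) (Sum.inl (π r)) t := by
  have h' : π q ≠ π r := hm.bijective.1.ne h
  obtain ⟨π', c', hm', hinv⟩ := hm.inv
  have key : ∀ q r : Fin n, c q = 1 → c r = 1 →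
      (g⁻¹).1ᵀ * Matrix.single q r t * (g⁻¹).1 = Matrix.single (π q) (π r) t := by
    intro q r hq hr
    have hp : ∀ i k, π' i = k ↔ i = π k := fun i k =>
      ⟨fun e => by obtain ⟨l, rfl⟩ := hm.bijective.2 i; rw [(hinv l).1] at e; rw [e],
        fun e => e ▸ (hinv k).1⟩
    ext i j
    rw [Matrix.mul_apply, Finset.sum_eq_single r]
    · rw [Matrix.mul_single_apply_same, Matrix.transpose_apply, hm' q i, hm' r j, Matrix.single_apply]
      simp only [eq_comm (a := q), eq_comm (a := r), hp, eq_comm (a := π q), eq_comm (a := π r)]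
      by_cases hi : i = π q
      · by_cases hj : j = π r
        · subst hi; subst hj; simp [(hinv q).2, (hinv r).2, hq, hr]
        · simp [hi, hj]
      · simp [hi]
    · intro b _ hb
      rw [Matrix.mul_single_apply_of_ne _ _ _ _ _ hb, zero_mul]
    · simp
  rw [mul_inv_eq_iff_eq_mul]
  refine Units.ext ?_
  rw [Units.val_mul, Units.val_mul, coe_phi0, coe_xO (show supp (Sum.inr q : SIdx n) ≠ supp (Sum.inl r : SIdx n) from h),
    coe_xO (show supp (Sum.inr (π q) : SIdx n) ≠ supp (Sum.inl (π r) : SIdx n) from h'), eO_left, eO_left,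
    fromBlocks_multiply, fromBlocks_multiply]
  congr 1 <;> try simp
  have e := congrArg (· * g.1) (congrArg₂ (· - ·) (key q r hq hr) (key r q hr hq))
  have hgg : (g⁻¹).1 * g.1 = 1 := congrArg Subtype.val (inv_mul_cancel g)
  simp only [← Matrix.sub_mul, ← Matrix.mul_sub, Matrix.mul_assoc, hgg, Matrix.mul_one] at e
  simpa [Matrix.mul_assoc] using e

end Mono

section Flip

/-- Permutations as matrices. -/
noncomputable def pm : Equiv.Perm (SIdx n) →* GL (SIdx n) F := (Matrix.permMatrixHom (R := F)).toHomUnits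

theorem pm_mulVec (σ : Equiv.Perm (SIdx n)) (v : SIdx n → F) :
    ((pm σ : GL (SIdx n) F) : Matrix (SIdx n) (SIdx n) F) *ᵥ v = v ∘ ⇑σ⁻¹ :=
  Matrix.permMatrix_mulVec σ⁻¹

theorem pm_conj {σ : Equiv.Perm (SIdx n)} (hb : ∀ c, σ (bar c) = bar (σ c)) {a b : SIdx n} (h : supp a ≠ supp b)
    (h' : supp (σ a) ≠ supp (σ b)) (t : F) : pm σ * xO a b t * (pm σ)⁻¹ = xO (σ a) (σ b) t := by
  rw [mul_inv_eq_iff_eq_mul]
  refine Units.ext (Matrix.toLin'.injective (LinearMap.ext fun v => ?_))
  rw [Matrix.toLin'_apply, Matrix.toLin'_apply, Units.val_mul, Units.val_mul, ← Matrix.mulVec_mulVec,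
    ← Matrix.mulVec_mulVec, pm_mulVec, pm_mulVec, coe_xO h, coe_xO h', eO_mulVec, eO_mulVec]
  funext i
  obtain ⟨k, rfl⟩ := σ.surjective i
  simp [Pi.single_apply, ← hb, σ.injective.eq_iff]

theorem pm_mem_iso {σ : Equiv.Perm (SIdx n)}
    (h : ∀ v : SIdx n → F, Cfsg.quadFormPlus n F (v ∘ ⇑σ) = Cfsg.quadFormPlus n F v) :
    (pm σ : GL (SIdx n) F) ∈ Cfsg.isometryGroup F (Cfsg.quadFormPlus n F) := by
  intro v _
  show Cfsg.quadFormPlus n F (((pm σ : GL (SIdx n) F) : Matrix (SIdx n) (SIdx n) F) *ᵥ v) = _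
  rw [pm_mulVec]
  exact (h _).symm.trans (congrArg _ (funext fun i => by simp))

/-- Exchange of a coordinate with its partner. -/
def flipOne (i : Fin n) : Equiv.Perm (SIdx n) := Equiv.swap (Sum.inl i) (Sum.inr i)

theorem quad_flipOne (i : Fin n) (v : SIdx n → F) :
    Cfsg.quadFormPlus n F (v ∘ ⇑(flipOne i)) = Cfsg.quadFormPlus n F v := by
  refine Finset.sum_congr rfl fun j _ => ?_
  by_cases h : j = i
  · subst h; simp [flipOne, mul_comm]
  · simp [flipOne, Equiv.swap_apply_def, h]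

theorem quad_sumCongr (e : Equiv.Perm (Fin n)) (v : SIdx n → F) :
    Cfsg.quadFormPlus n F (v ∘ ⇑(Equiv.sumCongr e e)) = Cfsg.quadFormPlus n F v := by
  simp only [Cfsg.quadFormPlus, Function.comp_apply, Equiv.sumCongr_apply, Sum.map_inl, Sum.map_inr]
  exact Equiv.sum_comp e fun i => v (Sum.inl i) * v (Sum.inr i)

/-- Two sign changes. -/
def flipPair (i j : Fin n) : Equiv.Perm (SIdx n) := flipOne i * flipOne j

theorem flipPair_bar (i j : Fin n) (c : SIdx n) : flipPair i j (bar c) = bar (flipPair i j c) := by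
  rcases c with c | c <;> simp [flipPair, flipOne, bar, Equiv.swap_apply_def] <;> split_ifs <;> simp_all

theorem flipPair_supp (i j : Fin n) (c : SIdx n) : supp (flipPair i j c) = supp c := by
  rcases c with c | c <;> simp [flipPair, flipOne, Equiv.swap_apply_def] <;> split_ifs <;> simp_all [supp]

theorem flipPair_fix {i j c : Fin n} (h1 : c ≠ i) (h2 : c ≠ j) :
    flipPair i j (Sum.inl c) = Sum.inl c ∧ flipPair i j (Sum.inr c) = Sum.inr c := by
  simp [flipPair, flipOne, Equiv.swap_apply_def, h1, h2]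

theorem flipPair_right {i j : Fin n} (h : i ≠ j) :
    flipPair i j (Sum.inl j) = Sum.inr j ∧ flipPair i j (Sum.inr j) = Sum.inl j := by
  simp [flipPair, flipOne, Equiv.swap_apply_def, h.symm]

theorem pm_flipPair_mem {i j : Fin n} (hij : i ≠ j) :
    ∃ g ∈ Cfsg.Omega F (Cfsg.quadFormPlus n F), (g : GL (SIdx n) F) = pm (flipPair i j) := by
  let a : Equiv.Perm (SIdx n) := flipOne i
  let b : Equiv.Perm (SIdx n) := Equiv.sumCongr (Equiv.swap i j) (Equiv.swap i j)
  have e : ⁅a, b⁆ = flipPair i j := by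
    rw [commutatorElement_def, mul_assoc, mul_assoc, flipPair]
    refine congrArg (a * ·) ?_
    refine Equiv.ext fun c => ?_
    simp only [Equiv.Perm.mul_apply, Equiv.Perm.inv_def, a, b, flipOne, Equiv.sumCongr_symm, Equiv.symm_swap,
      Equiv.sumCongr_apply]
    rcases c with c | c <;>
      by_cases h1 : c = i <;> by_cases h2 : c = j <;> simp_all [Equiv.swap_apply_def, Ne.symm]
  refine ⟨⁅⟨pm a, pm_mem_iso (quad_flipOne i)⟩, ⟨pm b, pm_mem_iso (quad_sumCongr _)⟩⁆,
    Subgroup.commutator_mem_commutator (Subgroup.mem_top _) (Subgroup.mem_top _), ?_⟩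
  rw [← e, map_commutatorElement]
  rfl

end Flip

variable {N : ℕ}

/-- The sign change. -/
noncomputable def t0 (N : ℕ) (F : Type*) [Field F] : GL (SIdx (N + 4)) F := pm (flipPair 0 (rIx N))

theorem r_ne_zero : (0 : Fin (N + 4)) ≠ rIx N := by simp [Fin.ext_iff]

theorem t0_mul_self : t0 N F * t0 N F = 1 := by
  rw [t0, ← map_mul, show flipPair (0 : Fin (N + 4)) (rIx N) * flipPair 0 (rIx N) = 1 from ?_, map_one]
  refine Equiv.ext fun c => ?_
  rcases c with c | c <;> simp [flipPair, flipOne, Equiv.swap_apply_def] <;> split_ifs <;> simp_all [r_ne_zero]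

theorem t0_conj {a b : SIdx (N + 4)} (h : supp a ≠ supp b) (t : F) :
    t0 N F * xO a b t * (t0 N F)⁻¹ = xO (flipPair 0 (rIx N) a) (flipPair 0 (rIx N) b) t :=
  pm_conj (flipPair_bar _ _) h (by rwa [flipPair_supp, flipPair_supp]) t

theorem t0_mem : t0 N F ∈ elO (N + 4) F := by
  obtain ⟨g, hg, e⟩ := pm_flipPair_mem (F := F) (r_ne_zero (N := N))
  rw [t0, ← e]
  exact Subgroup.mem_subgroupOf.1 (Omega_le_elO (N + 1) hg)

theorem phi0_mem (g : SpecialLinearGroup (Fin (N + 4)) F) : phi0 g ∈ elO (N + 4) F := by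
  have : (elO (N + 4) F).comap phi0 = ⊤ := elN_top _ fun a b h t => by
    rw [Subgroup.mem_comap, phi0_elN h]
    exact xO_mem_elO (show supp (Sum.inl a : SIdx (N + 4)) ≠ supp (Sum.inl b : SIdx _) from h) t
  exact (this ▸ Subgroup.mem_top g : g ∈ (elO (N + 4) F).comap phi0)

theorem sig0_upper (s : F) : sig (phi0 (n := N + 4)) (t0 N F) (upper s) = xO (Sum.inl (qIx N)) (Sum.inr (rIx N)) s := by
  rw [sig_apply, emb_upper_eq, phi0_elN qr_ne, t0_conj (show supp (Sum.inl (qIx N) : SIdx _) ≠ supp (Sum.inl (rIx N)) from qr_ne),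
    (flipPair_fix (by simp [Fin.ext_iff]) qr_ne).1, (flipPair_right r_ne_zero).1]

theorem sig0_lower (s : F) : sig (phi0 (n := N + 4)) (t0 N F) (lower s) = xO (Sum.inr (rIx N)) (Sum.inl (qIx N)) s := by
  rw [sig_apply, emb_lower_eq, phi0_elN qr_ne.symm, t0_conj (show supp (Sum.inl (rIx N) : SIdx _) ≠ supp (Sum.inl (qIx N)) from qr_ne.symm),
    (flipPair_fix (by simp [Fin.ext_iff]) qr_ne).1, (flipPair_right r_ne_zero).1]

theorem midComm0 : MidComm (phi0 (n := N + 4)) (t0 N F) := by
  intro m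
  have key : ((Subgroup.centralizer {t0 N F}).comap (phi0.comp (midHom (N := N)))) = ⊤ :=
    elN_top _ fun a b h s => by
      have hne : mid N a ≠ mid N b := mid_inj.ne h
      rw [Subgroup.mem_comap, Subgroup.mem_centralizer_singleton_iff, MonoidHom.comp_apply, midHom, embN_elN _ h,
        phi0_elN hne]
      symm
      rw [← mul_inv_eq_iff_eq_mul, t0_conj (show supp (Sum.inl (mid N a) : SIdx _) ≠ supp (Sum.inl (mid N b)) from hne),
        (flipPair_fix (fun e => absurd (congrArg Fin.val e) (Nat.succ_ne_zero _)) (fun e => absurd (congrArg Fin.val e) (by simp only [mid]; omega))).1,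
        (flipPair_fix (fun e => absurd (congrArg Fin.val e) (Nat.succ_ne_zero _)) (fun e => absurd (congrArg Fin.val e) (by simp only [mid]; omega))).1]
  have := (key ▸ Subgroup.mem_top m : m ∈ ((Subgroup.centralizer {t0 N F}).comap (phi0.comp (midHom (N := N)))))
  exact (Subgroup.mem_centralizer_singleton_iff.1 this).symm

theorem mem_cen0 {a b : Fin (N + 4)} (hab : a ≠ b) (h : (a.val ≤ N + 1 ∧ b.val ≤ N + 1) ∨ (N + 2 ≤ a.val ∧ N + 2 ≤ b.val))
    (s : F) : elN a b s ∈ cen (phi0 (n := N + 4)) (t0 N F) := by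
  rw [mem_cen]
  intro v
  have hab' : supp (Sum.inl a : SIdx (N + 4)) ≠ supp (Sum.inl b : SIdx _) := hab
  have hv : supp (Sum.inl (qIx N) : SIdx _) ≠ supp (Sum.inr (rIx N) : SIdx _) := qr_ne
  have key : ∀ u, Commute (phi0 (elN a b s)) (xO (Sum.inl (qIx N)) (Sum.inr (rIx N)) u) ∧
      Commute (phi0 (elN a b s)) (xO (Sum.inr (rIx N)) (Sum.inl (qIx N)) u) := by
    intro u
    rw [phi0_elN hab]
    rcases h with ⟨ha, hb⟩ | ⟨ha, hb⟩
    · constructor
      · exact xO_disj hab' hv (by simp [supp, Fin.ext_iff]; omega) (by simp [supp, Fin.ext_iff]; omega)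
          (by simp [supp, Fin.ext_iff]; omega) (by simp [supp, Fin.ext_iff]; omega) s u
      · exact xO_disj hab' hv.symm (by simp [supp, Fin.ext_iff]; omega) (by simp [supp, Fin.ext_iff]; omega)
          (by simp [supp, Fin.ext_iff]; omega) (by simp [supp, Fin.ext_iff]; omega) s u
    · have flip : ∀ (x y : SIdx (N + 4)), supp x ≠ supp y → ∀ u : F, xO x y u = xO (bar y) (bar x) (-u) := by
        intro x y hxy u
        refine Units.ext ?_
        rw [coe_xO hxy, coe_xO (by simpa using hxy.symm), eO_flip]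
      obtain ⟨rfl, rfl⟩ | ⟨rfl, rfl⟩ : (a = qIx N ∧ b = rIx N) ∨ (a = rIx N ∧ b = qIx N) := by
        simp [Fin.ext_iff] at hab ⊢; omega
      · constructor
        · exact xO_orth hab' s u
        · rw [flip _ _ hab' s]
          have := xO_orth (a := (Sum.inr (rIx N) : SIdx (N + 4))) (b := Sum.inr (qIx N)) (show rIx N ≠ qIx N from qr_ne.symm) (-s) u
          simpa [bar] using this
      · constructor
        · rw [flip _ _ hv u]
          have h2 := xO_orth (a := (Sum.inl (rIx N) : SIdx (N + 4))) (b := Sum.inl (qIx N)) (show rIx N ≠ qIx N from qr_ne.symm) s (-u)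
          simpa [bar] using h2
        · rw [flip (Sum.inr (rIx N)) (Sum.inl (qIx N)) hv.symm u, flip _ _ hab' s]
          have := xO_orth (a := (Sum.inr (qIx N) : SIdx (N + 4))) (b := Sum.inr (rIx N)) (show qIx N ≠ rIx N from qr_ne) (-s) (-u)
          simpa [bar] using this
  have : (⊤ : Subgroup (SLtwo F)) ≤
      (Subgroup.centralizer {phi0 (elN a b s)}).comap (sig (phi0 (n := N + 4)) (t0 N F)) := by
    rw [← Cfsg.Agent.Lib.LinGroup.closure_upper_lower
      (H := (Subgroup.centralizer {phi0 (elN a b s)}).comap (sig (phi0 (n := N + 4)) (t0 N F)))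
      (fun u => ?_) (fun u => ?_)] <;>
      rw [Subgroup.mem_comap, Subgroup.mem_centralizer_singleton_iff]
    · rw [sig0_upper]; exact (key u).1.eq.symm
    · rw [sig0_lower]; exact (key u).2.eq.symm
  exact (Subgroup.mem_centralizer_singleton_iff.1 (this (Subgroup.mem_top v))).symm

theorem forkRels0 : ForkRels (phi0 (n := N + 4)) (t0 N F) where
  mid_comm := midComm0
  low a b hab ha hb s := mem_cen0 hab (Or.inl ⟨ha, hb⟩) s
  qr v := by
    have : (⊤ : Subgroup (SLtwo F)) ≤
        (cen (phi0 (n := N + 4)) (t0 N F)).comap (SLStd.emb (qr_ne (N := N))) := by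
      rw [← Cfsg.Agent.Lib.LinGroup.closure_upper_lower
        (H := (cen (phi0 (n := N + 4)) (t0 N F)).comap (SLStd.emb (qr_ne (N := N)))) (fun u => ?_) (fun u => ?_)] <;>
        rw [Subgroup.mem_comap]
      · rw [emb_upper_eq]; exact mem_cen0 qr_ne (Or.inr ⟨le_rfl, Nat.le_succ _⟩) u
      · rw [emb_lower_eq]; exact mem_cen0 qr_ne.symm (Or.inr ⟨Nat.le_succ _, le_rfl⟩) u
    exact this (Subgroup.mem_top v)

end Cfsg.Agent.Lib.OmegaPlusPres
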