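import Cfsg.Agent.Lib.OmegaPlusPres.Levi

/-!
Relators for a copy of `SL_n` and one further element.
-/

set_option autoImplicit false
set_option linter.unusedSimpArgs false
set_option linter.unusedSectionVars false

namespace Cfsg.Agent.Lib.OmegaPlusPres

open Matrix Cfsg.Agent.Lib.SL2 Cfsg.Agent.Lib.LieRecog Cfsg.Agent.Lib.LieRecog.DSys Cfsg.Agent.Lib.BoundedPresentation

section Diag

variable {Ω : Type} [DecidableEq Ω] [Fintype Ω] {F : Type*} [Field F]

theorem diag_conj_emb {D : SpecialLinearGroup Ω F} {d : Ω → F} (hD : D.1 = Matrix.diagonal d) {a b : Ω}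
    (h : a ≠ b) (s : Fˣ) (hs : d a = (s : F) * d b) (v : SLtwo F) :
    D * SLStd.emb h v * D⁻¹ = SLStd.emb h (sc2 s v) := by
  refine DFunLike.congr_fun (DSys.hom_ext (f := (MulAut.conj D).toMonoidHom.comp (SLStd.emb h))
    (g := (SLStd.emb h).comp (sc2 s)) (fun u => ?_) (fun u => ?_)) v <;>
    simp only [MonoidHom.comp_apply, MulEquiv.coe_toMonoidHom, MulAut.conj_apply, sc2_upper, sc2_lower] <;>
    refine SLStd.conj_eq ?_ <;> rw [hD]
  · rw [SLStd.emb_upper, SLStd.emb_upper]
    exact SLStd.diag_tv d a b _ _ (by rw [hs]; ring)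
  · rw [SLStd.emb_lower, SLStd.emb_lower]
    refine SLStd.diag_tv d b a _ _ ?_
    rw [hs, Units.val_inv_eq_inv_val]
    field_simp

theorem diag_commute_emb {D : SpecialLinearGroup Ω F} {d : Ω → F} (hD : D.1 = Matrix.diagonal d) {a b : Ω}
    (h : a ≠ b) (hs : d a = d b) (v : SLtwo F) : Commute D (SLStd.emb h v) := by
  have := diag_conj_emb hD h 1 (by simpa using hs) v
  rw [sc2_one] at this
  exact mul_inv_eq_iff_eq_mul.1 this

theorem emb_commute_disj {a b c d : Ω} (hab : a ≠ b) (hcd : c ≠ d) (h1 : a ≠ c) (h2 : a ≠ d) (h3 : b ≠ c)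
    (h4 : b ≠ d) (v w : SLtwo F) : Commute (SLStd.emb hab v : SpecialLinearGroup Ω F) (SLStd.emb hcd w) := by
  have key : ∀ {x y : Ω} (hxy : x ≠ y), x ≠ c → x ≠ d → y ≠ c → y ≠ d → ∀ u,
      Commute (elN x y u : SpecialLinearGroup Ω F) (SLStd.emb hcd w) := by
    intro x y hxy e1 e2 e3 e4 u
    have : (⊤ : Subgroup (SLtwo F)) ≤ (Subgroup.centralizer {elN x y u}).comap (SLStd.emb hcd) := by
      rw [← Cfsg.Agent.Lib.LinGroup.closure_upper_lower
        (H := (Subgroup.centralizer {elN x y u}).comap (SLStd.emb hcd)) (fun z => ?_) (fun z => ?_)] <;>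
        rw [Subgroup.mem_comap, Subgroup.mem_centralizer_singleton_iff]
      · rw [emb_upper_eq]; exact (elN_comm hxy hcd e3 (Ne.symm e2) u z).eq.symm
      · rw [emb_lower_eq]; exact (elN_comm hxy hcd.symm e4 (Ne.symm e1) u z).eq.symm
    exact (Subgroup.mem_centralizer_singleton_iff.1 (this (Subgroup.mem_top w))).symm
  have : (⊤ : Subgroup (SLtwo F)) ≤ (Subgroup.centralizer {SLStd.emb hcd w}).comap (SLStd.emb hab) := by
    rw [← Cfsg.Agent.Lib.LinGroup.closure_upper_lower
      (H := (Subgroup.centralizer {SLStd.emb hcd w}).comap (SLStd.emb hab)) (fun z => ?_) (fun z => ?_)] <;>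
      rw [Subgroup.mem_comap, Subgroup.mem_centralizer_singleton_iff]
    · rw [emb_upper_eq]; exact (key hab h1 h2 h3 h4 z).eq
    · rw [emb_lower_eq]; exact (key hab.symm h3 h4 h1 h2 z).eq
  exact Subgroup.mem_centralizer_singleton_iff.1 (this (Subgroup.mem_top v))

end Diag

variable {N : ℕ} {F : Type*} [Field F]

variable (N F) in
/-- The free group on the given elements and one further one. -/
abbrev Words := FreeGroup (SpecialLinearGroup (Fin (N + 4)) F ⊕ FreeGroup Unit)

/-- A given element. -/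
def wL (g : SpecialLinearGroup (Fin (N + 4)) F) : Words N F := FreeGroup.of (Sum.inl g)

/-- The further element. -/
def wT : Words N F := FreeGroup.of (Sum.inr (FreeGroup.of ()))

/-- The copy of `SL₂` at the fork. -/
def wS (v : SLtwo F) : Words N F := wT * wL (SLStd.emb qr_ne v) * wT⁻¹

/-- An element commutes with one of the copy at the fork. -/
def cm (g : SpecialLinearGroup (Fin (N + 4)) F) (v : SLtwo F) : Words N F :=
  wL g * wS v * (wL g)⁻¹ * (wS v)⁻¹

/-- An element of the fixed coordinates commutes with the further one. -/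
def midRel (m : SpecialLinearGroup (Fin (N + 2)) F) : Words N F :=
  wT * wL (midHom m) * wT⁻¹ * (wL (midHom m))⁻¹

/-- An element of the fixed coordinates inverts the further one. -/
def twistRel (m : SpecialLinearGroup (Fin (N + 2)) F) : Words N F :=
  wT * wL (midHom m) * wT * (wL (midHom m))⁻¹

variable (N F) in
/-- The torus relation. -/
def zRel : Words N F := wL (SLStd.emb qr_ne (SL2.diag (-1))) * wS (SL2.diag (-1))

section Eval

variable {G : Type*} [Group G] (A : SpecialLinearGroup (Fin (N + 4)) F →* G) (B : FreeGroup Unit →* G)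

theorem eval_wL (g : SpecialLinearGroup (Fin (N + 4)) F) : glueEval A B (wL g) = A g := glueEval_inl _ _ _

theorem eval_wT : glueEval A B (wT (N := N) (F := F)) = B (FreeGroup.of ()) := glueEval_inr _ _ _

theorem eval_wS (v : SLtwo F) : glueEval A B (wS (N := N) v) = sig A (B (FreeGroup.of ())) v := by
  rw [wS, map_mul, map_mul, map_inv, eval_wL, eval_wT, sig_apply]

theorem eval_cm (g : SpecialLinearGroup (Fin (N + 4)) F) (v : SLtwo F) :
    glueEval A B (cm g v) = 1 ↔ Commute (A g) (sig A (B (FreeGroup.of ())) v) := by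
  rw [cm, map_mul, map_mul, map_mul, map_inv, map_inv, eval_wL, eval_wS, mul_inv_eq_one, mul_inv_eq_iff_eq_mul]
  exact Iff.rfl

theorem eval_midRel (m : SpecialLinearGroup (Fin (N + 2)) F) :
    glueEval A B (midRel m) = 1 ↔ Commute (B (FreeGroup.of ())) (A (midHom m)) := by
  rw [midRel, map_mul, map_mul, map_mul, map_inv, map_inv, eval_wL, eval_wT, mul_inv_eq_one, mul_inv_eq_iff_eq_mul]
  exact Iff.rfl

theorem eval_twistRel (m : SpecialLinearGroup (Fin (N + 2)) F) :
    glueEval A B (twistRel m) = 1 ↔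
      A (midHom m) * B (FreeGroup.of ()) * (A (midHom m))⁻¹ = (B (FreeGroup.of ()))⁻¹ := by
  rw [twistRel, map_mul, map_mul, map_mul, map_inv, eval_wL, eval_wT, mul_assoc, mul_assoc,
    mul_eq_one_iff_eq_inv', mul_assoc]

theorem eval_zRel : glueEval A B (zRel N F) = 1 ↔
    A (SLStd.emb qr_ne (SL2.diag (-1))) * sig A (B (FreeGroup.of ())) (SL2.diag (-1)) = 1 := by
  rw [zRel, map_mul, eval_wL, eval_wS]

end Eval

section Derived

variable {G : Type*} [Group G] {Φ : SpecialLinearGroup (Fin (N + 4)) F →* G} {t : G}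

/-- The elements of the fork copy commuting with a given one. -/
def comSet (Φ : SpecialLinearGroup (Fin (N + 4)) F →* G) (t : G) (g : SpecialLinearGroup (Fin (N + 4)) F) :
    Subgroup (SLtwo F) := (Subgroup.centralizer {Φ g}).comap (sig Φ t)

theorem mem_comSet {g : SpecialLinearGroup (Fin (N + 4)) F} {v : SLtwo F} :
    v ∈ comSet Φ t g ↔ Commute (Φ g) (sig Φ t v) := by
  rw [comSet, Subgroup.mem_comap, Subgroup.mem_centralizer_singleton_iff]
  exact ⟨fun h => h.symm, fun h => h.eq.symm⟩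

theorem mem_cen_of_top {g : SpecialLinearGroup (Fin (N + 4)) F} (h : comSet Φ t g = ⊤) : g ∈ cen Φ t :=
  (mem_cen Φ t).2 fun v => mem_comSet.1 (h ▸ Subgroup.mem_top v)

/-- Rescaling by an element of the fixed coordinates and one commuting with the copy. -/
theorem conj_step (hM : MidComm Φ t) {g c e : SpecialLinearGroup (Fin (N + 4)) F} {v v' : SLtwo F}
    (h : Commute (Φ g) (sig Φ t v)) (hc : c ∈ (midHom (N := N) (F := F)).range) (he : e ∈ cen Φ t)
    (hv : c * SLStd.emb qr_ne v * c⁻¹ = SLStd.emb qr_ne v') :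
    Commute (Φ (e * c * g * (e * c)⁻¹)) (sig Φ t v') := by
  obtain ⟨m, rfl⟩ := hc
  have hs : Φ (midHom m) * sig Φ t v * (Φ (midHom m))⁻¹ = sig Φ t v' := by
    rw [sig_apply, sig_apply, ← hv, map_mul, map_mul, map_inv]
    have := (hM m).eq
    calc Φ (midHom m) * (t * Φ (SLStd.emb qr_ne v) * t⁻¹) * (Φ (midHom m))⁻¹
        = (Φ (midHom m) * t) * Φ (SLStd.emb qr_ne v) * (Φ (midHom m) * t)⁻¹ := by simp [mul_assoc]
      _ = (t * Φ (midHom m)) * Φ (SLStd.emb qr_ne v) * (t * Φ (midHom m))⁻¹ := by rw [this]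
      _ = _ := by simp [mul_assoc]
  have h' := (h.map (MulAut.conj (Φ (midHom m))).toMonoidHom).map (MulAut.conj (Φ e)).toMonoidHom
  simp only [MulEquiv.coe_toMonoidHom, MulAut.conj_apply, hs] at h'
  have he' : Φ e * sig Φ t v' * (Φ e)⁻¹ = sig Φ t v' := by
    rw [((mem_cen Φ t).1 he v').eq, mul_inv_cancel_right]
  rw [he'] at h'
  simpa [mul_assoc] using h'

theorem emb_mem_mid {a b : Fin (N + 4)} (h : a ≠ b) (ha : 1 ≤ a.val ∧ a.val ≤ N + 2) (hb : 1 ≤ b.val ∧ b.val ≤ N + 2)
    (v : SLtwo F) : SLStd.emb h v ∈ (midHom (N := N) (F := F)).range := by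
  have : (SLStd.emb (F := F) h).range ≤ (midHom (N := N) (F := F)).range :=
    DSys.range_le (fun s => by rw [emb_upper_eq]; exact elN_mem_mid h ha hb s)
      (fun s => by rw [emb_lower_eq]; exact elN_mem_mid h.symm hb ha s)
  exact this ⟨v, rfl⟩

/-- Two elements generate the fixed coordinates. -/
theorem midComm_of_gens {m₁ m₂ : SpecialLinearGroup (Fin (N + 2)) F}
    (hgen : Subgroup.closure ({m₁, m₂} : Set _) = ⊤) (h1 : Commute t (Φ (midHom m₁)))
    (h2 : Commute t (Φ (midHom m₂))) : MidComm Φ t := by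
  intro m
  have : m ∈ ((Subgroup.centralizer {t}).comap (Φ.comp midHom)) := by
    have hle : (⊤ : Subgroup (SpecialLinearGroup (Fin (N + 2)) F)) ≤ (Subgroup.centralizer {t}).comap (Φ.comp midHom) := by
      rw [← hgen, Subgroup.closure_le]
      rintro _ (rfl | rfl) <;> simp only [SetLike.mem_coe, Subgroup.mem_comap, Subgroup.mem_centralizer_singleton_iff,
        MonoidHom.comp_apply]
      exacts [h1.eq.symm, h2.eq.symm]
    exact hle (Subgroup.mem_top m)
  rw [Subgroup.mem_comap, Subgroup.mem_centralizer_singleton_iff, MonoidHom.comp_apply] at this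
  exact this.symm

theorem midComm_of_twist (hN : 1 ≤ N) {m₁ m₂ : SpecialLinearGroup (Fin (N + 2)) F}
    (hgen : Subgroup.closure ({m₁, m₂} : Set _) = ⊤) (h1 : Commute t (Φ (midHom m₁)))
    (h2 : Φ (midHom m₂) * t * (Φ (midHom m₂))⁻¹ = t⁻¹) : MidComm Φ t ∧ t * t = 1 := by
  set f : SpecialLinearGroup (Fin (N + 2)) F →* MulAut G := MulAut.conj.comp (Φ.comp midHom) with hf
  let K : Subgroup (SpecialLinearGroup (Fin (N + 2)) F) :=
    { carrier := {m | f m t = t ∨ f m t = t⁻¹}
      one_mem' := Or.inl (by simp [hf])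
      mul_mem' := by
        intro a b ha hb
        show f (a * b) t = t ∨ f (a * b) t = t⁻¹
        rw [map_mul, MulAut.mul_apply]
        rcases hb with e | e <;> rw [e] <;> rcases ha with e' | e' <;> simp [map_inv, e']
      inv_mem' := by
        intro a ha
        show f a⁻¹ t = t ∨ f a⁻¹ t = t⁻¹
        rcases ha with e | e
        · left
          conv_lhs => rw [← e]
          rw [← MulAut.mul_apply, ← map_mul, inv_mul_cancel, map_one, MulAut.one_apply]
        · right
          have e2 : f a t⁻¹ = t := by rw [map_inv, e, inv_inv]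
          conv_lhs => rw [← e2]
          rw [← MulAut.mul_apply, ← map_mul, inv_mul_cancel, map_one, MulAut.one_apply] }
  have hK : K = ⊤ := by
    rw [eq_top_iff, ← hgen, Subgroup.closure_le]
    intro x hx
    rcases hx with hx | hx <;> rw [hx]
    · left
      show Φ (midHom m₁) * t * (Φ (midHom m₁))⁻¹ = t
      rw [← h1.eq, mul_inv_cancel_right]
    · right; exact h2
  have hfix : ∀ m, f m t = t := by
    have hall : ∀ m, f m t = t ∨ f m t = t⁻¹ := fun m => show m ∈ K by rw [hK]; trivial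
    let H : Subgroup (SpecialLinearGroup (Fin (N + 2)) F) := (MulAction.stabilizer (MulAut G) t).comap f
    have hH : ∀ {m}, m ∈ H ↔ f m t = t := Iff.rfl
    have hcomm : ∀ a b, a * b * a⁻¹ * b⁻¹ ∈ H := by
      intro a b
      have hinv : ∀ c, f c t = t⁻¹ → f c⁻¹ t = t⁻¹ := fun c e => by
        have e2 : f c t⁻¹ = t := by rw [map_inv, e, inv_inv]
        conv_lhs => rw [← e2]
        rw [← MulAut.mul_apply, ← map_mul, inv_mul_cancel, map_one, MulAut.one_apply]
      have hfix' : ∀ c, f c t = t → f c⁻¹ t = t := fun c e => by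
        conv_lhs => rw [← e]
        rw [← MulAut.mul_apply, ← map_mul, inv_mul_cancel, map_one, MulAut.one_apply]
      rw [hH, map_mul, map_mul, map_mul, MulAut.mul_apply, MulAut.mul_apply, MulAut.mul_apply]
      rcases hall a with ea | ea <;> rcases hall b with eb | eb
      · rw [hfix' b eb, hfix' a ea, eb, ea]
      · rw [hinv b eb, map_inv (f a⁻¹), hfix' a ea, map_inv (f b), eb, inv_inv, ea]
      · rw [hfix' b eb, hinv a ea, map_inv (f b), eb, map_inv (f a), ea, inv_inv]
      · rw [hinv b eb, map_inv (f a⁻¹), hinv a ea, inv_inv, eb, map_inv (f a), ea, inv_inv]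
    have htop : H = ⊤ := elN_top _ fun a b hab s => by
      obtain ⟨c, hc⟩ : ∃ c : Fin (N + 2), c ∉ ({a, b} : Finset (Fin (N + 2))) := by
        by_contra h
        push Not at h
        have h1 := Finset.card_le_card (show (Finset.univ : Finset (Fin (N + 2))) ⊆ {a, b} from fun x _ => h x)
        have h2 : ({a, b} : Finset (Fin (N + 2))).card ≤ 2 := Finset.card_le_two
        rw [Finset.card_univ, Fintype.card_fin] at h1
        omega
      simp only [Finset.mem_insert, Finset.mem_singleton, not_or] at hc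
      rw [← mul_one s, ← elN_chain (Ne.symm hc.1) hc.2 hab s 1]
      exact hcomm _ _
    exact fun m => hH.1 (htop ▸ Subgroup.mem_top m)
  refine ⟨fun m => ?_, ?_⟩
  · exact (mul_inv_eq_iff_eq_mul.1 (show Φ (midHom m) * t * (Φ (midHom m))⁻¹ = t from hfix m)).symm
  · have := (hfix m₂).symm.trans h2
    exact eq_inv_iff_mul_eq_one.1 this

/-- With an involution the two copies change places. -/
theorem comm_symm (ht : t * t = 1) {u v : SLtwo F} (h : Commute (Φ (SLStd.emb qr_ne u)) (sig Φ t v)) :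
    Commute (Φ (SLStd.emb qr_ne v)) (sig Φ t u) := by
  have hti : t⁻¹ = t := inv_eq_of_mul_eq_one_left ht
  have h' := h.map (MulAut.conj t).toMonoidHom
  simp only [MulEquiv.coe_toMonoidHom, MulAut.conj_apply, sig_apply] at h'
  have e : t * (t * Φ (SLStd.emb qr_ne v) * t⁻¹) * t⁻¹ = Φ (SLStd.emb qr_ne v) := by
    rw [hti, ← mul_assoc, ← mul_assoc, ht, one_mul, mul_assoc, ht, mul_one]
  rw [e] at h'
  rw [sig_apply]
  exact h'.symm

end Derived

section InModel

theorem emb_mem_cen0 {a b : Fin (N + 4)} (hab : a ≠ b)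
    (h : (a.val ≤ N + 1 ∧ b.val ≤ N + 1) ∨ (N + 2 ≤ a.val ∧ N + 2 ≤ b.val)) (v : SLtwo F) :
    SLStd.emb hab v ∈ cen (phi0 (n := N + 4)) (t0 N F) := by
  have : (SLStd.emb (F := F) hab).range ≤ cen (phi0 (n := N + 4)) (t0 N F) :=
    DSys.range_le (fun s => by rw [emb_upper_eq]; exact mem_cen0 hab h s)
      (fun s => by rw [emb_lower_eq]; exact mem_cen0 hab.symm (h.imp And.symm And.symm) s)
  exact this ⟨v, rfl⟩

theorem z_model : phi0 (SLStd.emb qr_ne (SL2.diag (-1))) *
    sig (phi0 (n := N + 4)) (t0 N F) (SL2.diag (-1)) = 1 := by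
  have hh : (SLStd.emb (qr_ne (N := N)) (SL2.diag (-1 : Fˣ)) : SpecialLinearGroup (Fin (N + 4)) F) *
      SLStd.emb qr_ne (SL2.diag (-1)) = 1 := by
    rw [← map_mul, SL2.diag_mul, neg_mul_neg, one_mul, SL2.diag_one, map_one]
  have hc : Commute (t0 N F) (phi0 (SLStd.emb qr_ne (SL2.diag (-1)))) := by
    refine Units.ext (Matrix.toLin'.injective (LinearMap.ext fun w => ?_))
    have hinv : (SLStd.emb (qr_ne (N := N)) (SL2.diag (-1 : Fˣ)) : SpecialLinearGroup (Fin (N + 4)) F)⁻¹ =
        SLStd.emb qr_ne (SL2.diag (-1)) := inv_eq_of_mul_eq_one_left hh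
    rw [Matrix.toLin'_apply, Matrix.toLin'_apply, Units.val_mul, Units.val_mul, ← Matrix.mulVec_mulVec,
      ← Matrix.mulVec_mulVec, t0, pm_mulVec, pm_mulVec, coe_phi0, hinv, SLStd.emb_diag,
      Matrix.diagonal_transpose, Matrix.fromBlocks_diagonal, flipPair_inv r_ne_zero]
    funext a
    simp only [Function.comp_apply, Matrix.mulVec_diagonal]
    congr 1
    have hs := flipPair_supp (0 : Fin (N + 4)) (rIx N) a
    rcases h : flipPair (0 : Fin (N + 4)) (rIx N) a with x | x <;> rcases a with y | y <;>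
      rw [h] at hs <;> simp_all [supp]
  rw [sig_apply, hc.eq, mul_inv_cancel_right, ← map_mul, hh, map_one]

end InModel

end Cfsg.Agent.Lib.OmegaPlusPres
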